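import Mathlib

/-!
# Maximal proper subalgebras of finite extensions and the length of a finite extension
-/

set_option autoImplicit false
universe u

open CategoryTheory

namespace Groth.Agent.PinchChainLib

section max

variable {B C : Type u} [CommRing B] [CommRing C] [Algebra B C]

/-- the killed elements -/
def Killed (B C : Type u) [CommRing B] [CommRing C] [Algebra B C] (f : B) : Prop :=
  ∀ c : C, ∃ n : ℕ, algebraMap B C f ^ n * c ∈ Set.range (algebraMap B C)

theorem wellFoundedGT_subalgebra [IsNoetherian B (C ⧸ LinearMap.range (Algebra.linearMap B C))] :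
    WellFoundedGT (Subalgebra B C) := by
  refine StrictMono.wellFoundedGT (f := fun D : Subalgebra B C =>
    (Subalgebra.toSubmodule D).map (LinearMap.range (Algebra.linearMap B C)).mkQ) ?_
  intro D D' h
  have hle : ∀ E : Subalgebra B C, LinearMap.range (Algebra.linearMap B C) ≤ Subalgebra.toSubmodule E := by
    rintro E _ ⟨r, rfl⟩
    exact E.algebraMap_mem r
  refine lt_of_le_of_ne (Submodule.map_mono h.le) fun e => h.ne ?_
  have e' := congrArg (Submodule.comap (LinearMap.range (Algebra.linearMap B C)).mkQ) e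
  rw [Submodule.comap_map_mkQ, Submodule.comap_map_mkQ, sup_of_le_right (hle D), sup_of_le_right (hle D')] at e'
  exact Subalgebra.toSubmodule.injective e'

theorem exists_pow_mem (D : Subalgebra B C) [Module.Finite B C] (f : B)
    (hf : ∀ c : C, ∃ n : ℕ, algebraMap B C f ^ n * c ∈ D) : ∃ N : ℕ, ∀ c : C, algebraMap B C f ^ N * c ∈ D := by
  obtain ⟨s, hs⟩ := Module.Finite.fg_top (R := B) (M := C)
  choose n hn using hf
  refine ⟨s.sup n, fun c => ?_⟩
  have hc : c ∈ Submodule.span B (s : Set C) := by rw [hs]; trivial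
  induction hc using Submodule.span_induction with
  | mem x hx =>
    obtain ⟨k, hk⟩ := Nat.exists_eq_add_of_le (Finset.le_sup (f := n) (Finset.mem_coe.1 hx))
    rw [hk, pow_add, mul_comm (algebraMap B C f ^ n x), mul_assoc]
    exact D.mul_mem (D.pow_mem (D.algebraMap_mem f) _) (hn x)
  | zero => rw [mul_zero]; exact D.zero_mem
  | add x y _ _ hx hy => rw [mul_add]; exact D.add_mem hx hy
  | smul r x _ hx => rw [mul_smul_comm]; exact D.smul_mem hx r

/-- A finite extension which is not surjective contains a maximal proper subalgebra, cut out by an ideal. -/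
theorem exists_maximal_step [Module.Finite B C] [IsNoetherian B (C ⧸ LinearMap.range (Algebra.linearMap B C))]
    (hns : ¬ Function.Surjective (algebraMap B C)) :
    ∃ (D : Subalgebra B C) (I : Ideal C), D ≠ ⊤ ∧ (∀ c ∈ I, c ∈ D) ∧
      (I.comap D.toSubring.subtype).IsMaximal ∧
      (letI := (Ideal.quotientMap I D.toSubring.subtype le_rfl).toAlgebra
       IsSimpleOrder (Subalgebra (D.toSubring ⧸ I.comap D.toSubring.subtype) (C ⧸ I))) ∧
      ∀ f : B, Killed B C f → algebraMap B C f ∈ I := by
  haveI := wellFoundedGT_subalgebra (B := B) (C := C)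
  obtain ⟨D, hD⟩ := exists_maximal_of_wellFoundedGT (fun D : Subalgebra B C => D ≠ ⊤)
    ⟨⊥, fun h => hns fun c => Algebra.mem_bot.1 (by rw [h]; trivial)⟩
  let cond : Ideal D :=
    { carrier := {d | ∀ c : C, (d : C) * c ∈ D}
      add_mem' := fun {a b} ha hb c => by rw [Subalgebra.coe_add, add_mul]; exact D.add_mem (ha c) (hb c)
      zero_mem' := fun c => by rw [Subalgebra.coe_zero, zero_mul]; exact D.zero_mem
      smul_mem' := fun a b hb c => by
        show ((a * b : D) : C) * c ∈ D
        rw [Subalgebra.coe_mul, mul_comm (a : C), mul_assoc]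
        exact hb _ }
  have hcond : cond ≠ ⊤ := fun h => hD.1 (eq_top_iff.2 fun c _ => by
    simpa using (show (1 : D) ∈ cond by rw [h]; trivial) c)
  obtain ⟨m, hm, hcm⟩ := Ideal.exists_le_maximal cond hcond
  let I : Ideal C := m.map D.val.toRingHom
  -- elements killing `C / D` lie in `m`
  have hkill : ∀ f : B, Killed B C f → algebraMap B D f ∈ m := fun f hf => by
    obtain ⟨N, hN⟩ := exists_pow_mem D f fun c => by
      obtain ⟨n, r, hr⟩ := hf c
      exact ⟨n, hr ▸ D.algebraMap_mem r⟩
    refine hm.isPrime.mem_of_pow_mem N (hcm fun c => ?_)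
    rw [Subalgebra.coe_pow]
    exact hN c
  let E : Subalgebra B C := (I.restrictScalars B ⊔ Subalgebra.toSubmodule D).toSubalgebra
    (Submodule.mem_sup_right D.one_mem) fun x y hx hy => by
      obtain ⟨a, ha, d, hd, rfl⟩ := Submodule.mem_sup.1 hx
      obtain ⟨b, hb, e, he, rfl⟩ := Submodule.mem_sup.1 hy
      refine Submodule.mem_sup.2 ⟨a * (b + e) + d * b, I.add_mem (I.mul_mem_right _ ha) (I.mul_mem_left _ hb),
        d * e, D.mul_mem hd he, by ring⟩
  have hDE : D ≤ E := fun d hd => Submodule.mem_sup_right hd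
  have hEtop : E ≠ ⊤ := by
    intro hE
    -- Nakayama
    let R : Submodule D C := LinearMap.range (Algebra.linearMap D C)
    haveI : Module.Finite D C := Module.Finite.of_restrictScalars_finite B D C
    have hI : ∀ x ∈ I, R.mkQ x ∈ m • (⊤ : Submodule D (C ⧸ R)) := by
      intro x hx
      have key : ∀ y : C, R.mkQ (y * x) ∈ m • (⊤ : Submodule D (C ⧸ R)) := by
        induction hx using Submodule.span_induction with
        | mem x hx =>
          obtain ⟨d, hd, rfl⟩ := hx
          intro y
          have : y * D.val.toRingHom d = d • y := mul_comm y _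
          rw [this, map_smul]
          exact Submodule.smul_mem_smul hd trivial
        | zero => intro y; rw [mul_zero, map_zero]; exact zero_mem _
        | add a b _ _ ha hb => intro y; rw [mul_add, map_add]; exact add_mem (ha y) (hb y)
        | smul r a _ ha => intro y; rw [smul_eq_mul, ← mul_assoc]; exact ha (y * r)
      simpa using key 1
    have htop : (⊤ : Submodule D (C ⧸ R)) ≤ m • ⊤ := fun z _ => by
      obtain ⟨c, rfl⟩ := R.mkQ_surjective z
      obtain ⟨a, ha, d, hd, rfl⟩ := Submodule.mem_sup.1 (show c ∈ E by rw [hE]; trivial)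
      have hdR : R.mkQ d = 0 := (Submodule.Quotient.mk_eq_zero R).2 ⟨⟨d, hd⟩, rfl⟩
      rw [map_add, hdR, add_zero]
      exact hI a ha
    obtain ⟨r, hr1, hr2⟩ := Submodule.exists_sub_one_mem_and_smul_eq_zero_of_fg_of_le_smul m ⊤
      Module.Finite.fg_top htop
    have hrm : r ∈ m := hcm fun c => by
      have h0 := hr2 (R.mkQ c) trivial
      rw [← map_smul] at h0
      obtain ⟨e, he⟩ := (Submodule.Quotient.mk_eq_zero R).1 h0
      have he' : (e : C) = (r : C) * c := he
      exact he' ▸ e.2
    exact hm.ne_top ((Ideal.eq_top_iff_one m).2 (by simpa using m.sub_mem hrm hr1))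
  have hED : E ≤ D := hD.2 hEtop hDE
  have hID : ∀ c ∈ I, c ∈ D := fun c hc => hED (Submodule.mem_sup_left hc)
  have h1 : (1 : C) ∉ I := fun h => hD.1 (eq_top_iff.2 fun c _ => hID c (by
    simpa using I.mul_mem_left c h))
  have hcomap : I.comap D.toSubring.subtype = m := by
    refine (hm.eq_of_le (fun h => h1 ?_) fun d hd => Ideal.mem_map_of_mem _ hd).symm
    have : (1 : D) ∈ I.comap D.toSubring.subtype := by rw [h]; trivial
    exact this
  refine ⟨D, I, hD.1, hID, hcomap ▸ hm, ?_, fun f hf => Ideal.mem_map_of_mem _ (hkill f hf)⟩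
  letI := (Ideal.quotientMap I D.toSubring.subtype le_rfl).toAlgebra
  have halg : ∀ d : D.toSubring, algebraMap (D.toSubring ⧸ I.comap D.toSubring.subtype) (C ⧸ I)
      (Ideal.Quotient.mk _ d) = Ideal.Quotient.mk I (d : C) := fun d => rfl
  haveI : Nontrivial (Subalgebra (D.toSubring ⧸ I.comap D.toSubring.subtype) (C ⧸ I)) := by
    refine ⟨⊥, ⊤, fun h => hD.1 (eq_top_iff.2 fun c _ => ?_)⟩
    obtain ⟨t, ht⟩ := Algebra.mem_bot.1 (show Ideal.Quotient.mk I c ∈ (⊥ : Subalgebra _ (C ⧸ I)) by rw [h]; trivial)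
    obtain ⟨d, rfl⟩ := Ideal.Quotient.mk_surjective t
    rw [halg, Ideal.Quotient.eq] at ht
    simpa using D.sub_mem d.2 (hID _ ht)
  refine ⟨fun S => ?_⟩
  let S' : Subalgebra B C := Subalgebra.mk
    (S.toSubsemiring.comap (Ideal.Quotient.mk I))
    (fun r => by
      show Ideal.Quotient.mk I (algebraMap B C r) ∈ S
      exact halg ⟨algebraMap B C r, D.algebraMap_mem r⟩ ▸ S.algebraMap_mem _)
  have hDS : D ≤ S' := fun d hd => by
    show Ideal.Quotient.mk I d ∈ S
    exact halg ⟨d, hd⟩ ▸ S.algebraMap_mem _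
  by_cases hS : S' = ⊤
  · exact .inr (eq_top_iff.2 fun z _ => by
      obtain ⟨c, rfl⟩ := Ideal.Quotient.mk_surjective z
      exact (show c ∈ S' by rw [hS]; trivial))
  · refine .inl (eq_bot_iff.2 fun z hz => ?_)
    obtain ⟨c, rfl⟩ := Ideal.Quotient.mk_surjective z
    exact Algebra.mem_bot.2 ⟨_, halg ⟨c, hD.2 hS hDS hz⟩⟩

end max

section len

/-- the length of the cokernel of a map of rings -/
noncomputable def len {B C : CommRingCat.{u}} (φ : B ⟶ C) : ℕ∞ :=
  letI := φ.hom.toAlgebra
  Module.length B (C ⧸ LinearMap.range (Algebra.linearMap B C))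

theorem len_le {B C' C : CommRingCat.{u}} (φ : B ⟶ C') (ψ : C' ⟶ C) (hψ : Function.Injective ψ) :
    len φ ≤ len (φ ≫ ψ) := by
  letI := φ.hom.toAlgebra
  letI := (φ ≫ ψ).hom.toAlgebra
  let l : C' →ₗ[B] C := (AlgHom.mk ψ.hom fun _ => rfl : C' →ₐ[B] C).toLinearMap
  refine Module.length_le_of_injective
    (f := Submodule.mapQ (LinearMap.range (Algebra.linearMap B C')) (LinearMap.range (Algebra.linearMap B C)) l
      (by rintro _ ⟨r, rfl⟩; exact ⟨r, rfl⟩)) ?_
  rw [injective_iff_map_eq_zero]
  intro z hz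
  obtain ⟨c, rfl⟩ := Submodule.mkQ_surjective _ z
  obtain ⟨r, hr⟩ := (Submodule.Quotient.mk_eq_zero _).1 hz
  exact (Submodule.Quotient.mk_eq_zero _).2 ⟨r, hψ hr⟩

theorem len_lt {B C' C : CommRingCat.{u}} (φ : B ⟶ C') (ψ : C' ⟶ C) (hψ : Function.Injective ψ)
    (hns : ¬ Function.Surjective ψ) (hfin : len (φ ≫ ψ) ≠ ⊤) : len φ < len (φ ≫ ψ) := by
  letI := φ.hom.toAlgebra
  letI := (φ ≫ ψ).hom.toAlgebra
  let l : C' →ₗ[B] C := (AlgHom.mk ψ.hom fun _ => rfl : C' →ₐ[B] C).toLinearMap
  obtain ⟨hN, hA⟩ := isFiniteLength_iff_isNoetherian_isArtinian.1 (Module.length_ne_top_iff.1 hfin)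
  let g := Submodule.mapQ (LinearMap.range (Algebra.linearMap B C')) (LinearMap.range (Algebra.linearMap B C)) l
    (by rintro _ ⟨r, rfl⟩; exact ⟨r, rfl⟩)
  have hg : Function.Injective g := by
    rw [injective_iff_map_eq_zero]
    intro z hz
    obtain ⟨c, rfl⟩ := Submodule.mkQ_surjective _ z
    obtain ⟨r, hr⟩ := (Submodule.Quotient.mk_eq_zero _).1 hz
    exact (Submodule.Quotient.mk_eq_zero _).2 ⟨r, hψ hr⟩
  show Module.length B _ < Module.length B _
  rw [(LinearEquiv.ofInjective g hg).length_eq]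
  refine Submodule.length_lt fun h => hns fun c => ?_
  obtain ⟨z, hz⟩ : Submodule.Quotient.mk c ∈ LinearMap.range g := by rw [h]; trivial
  obtain ⟨c', rfl⟩ := Submodule.mkQ_surjective _ z
  obtain ⟨r, hr⟩ := (Submodule.Quotient.eq _).1 (show Submodule.Quotient.mk (l c') = Submodule.Quotient.mk c from hz)
  exact ⟨c' - φ r, by
    show ψ (c' - φ r) = c
    rw [map_sub, show ψ (φ r) = ψ c' - c from hr]; abel⟩

theorem finite_and_noetherian_of_len {B C : CommRingCat.{u}} (φ : B ⟶ C) (h : len φ ≠ ⊤) :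
    letI := φ.hom.toAlgebra
    Module.Finite B C ∧ IsNoetherian B (C ⧸ LinearMap.range (Algebra.linearMap B C)) := by
  letI := φ.hom.toAlgebra
  obtain ⟨hN, -⟩ := isFiniteLength_iff_isNoetherian_isArtinian.1 (Module.length_ne_top_iff.1 h)
  haveI : Module.Finite B (LinearMap.range (Algebra.linearMap B C)) := Module.Finite.range _
  exact ⟨Module.Finite.of_submodule_quotient (LinearMap.range (Algebra.linearMap B C)), hN⟩

theorem len_ne_top_of_killed {B C : CommRingCat.{u}} (φ : B ⟶ C) [IsNoetherianRing B] (hφ : φ.hom.Finite)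
    (m : Ideal B) [m.IsMaximal] (hk : ∀ f ∈ m, letI := φ.hom.toAlgebra; Killed B C f) : len φ ≠ ⊤ := by
  letI := φ.hom.toAlgebra
  haveI : Module.Finite B C := hφ
  set M := C ⧸ LinearMap.range (Algebra.linearMap B C)
  have hann : m ≤ (Module.annihilator B M).radical := fun f hf => by
    obtain ⟨N, hN⟩ := exists_pow_mem (⊥ : Subalgebra B C) f fun c => by
      obtain ⟨n, hn⟩ := hk f hf c
      exact ⟨n, Algebra.mem_bot.2 hn⟩
    refine ⟨N, Module.mem_annihilator.2 fun z => ?_⟩
    obtain ⟨c, rfl⟩ := Submodule.mkQ_surjective _ z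
    rw [← map_smul]
    refine (Submodule.Quotient.mk_eq_zero _).2 ?_
    rw [Algebra.smul_def, map_pow]
    obtain ⟨r, hr⟩ := Algebra.mem_bot.1 (hN c)
    exact ⟨r, hr⟩
  haveI : Ring.KrullDimLE 0 (B ⧸ Module.annihilator B M) := Ring.krullDimLE_zero_iff.2 fun P hP => by
    have h1 : Module.annihilator B M ≤ P.comap (Ideal.Quotient.mk _) := fun r hr =>
      show Ideal.Quotient.mk _ r ∈ P by rw [Ideal.Quotient.eq_zero_iff_mem.2 hr]; exact P.zero_mem
    have h2 : m ≤ P.comap (Ideal.Quotient.mk _) := fun f hf => (hP.comap _).radical_le_iff.2 h1 (hann hf)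
    have h3 : (P.comap (Ideal.Quotient.mk _)).IsMaximal :=
      (Ideal.IsMaximal.eq_of_le ‹_› (hP.comap _).ne_top h2) ▸ ‹m.IsMaximal›
    haveI := h3
    have hs := Ideal.Quotient.mk_surjective (I := Module.annihilator B M)
    have h4 := Ideal.map_eq_top_or_isMaximal_of_surjective _ hs h3
    rw [Ideal.map_comap_of_surjective _ hs] at h4
    exact h4.resolve_left hP.ne_top
  haveI : IsArtinianRing (B ⧸ Module.annihilator B M) :=
    isArtinianRing_iff_isNoetherianRing_krullDimLE_zero.2 ⟨inferInstance, inferInstance⟩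
  haveI : IsArtinian B M := by
    letI : Module (B ⧸ Module.annihilator B M) M := Module.IsTorsionBySet.module
      (fun x r => Module.mem_annihilator.1 r.2 x)
    haveI : IsScalarTower B (B ⧸ Module.annihilator B M) M := Module.IsTorsionBySet.isScalarTower _
    haveI : Module.Finite (B ⧸ Module.annihilator B M) M := Module.Finite.of_restrictScalars_finite B _ M
    exact (isArtinian_of_surjective_algebraMap (R := B ⧸ Module.annihilator B M) (S := B)
      (M := M) Ideal.Quotient.mk_surjective)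
  exact Module.length_ne_top

end len

end Groth.Agent.PinchChainLib
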