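import Groth.Agent.PinchChainLib.Alg
import Groth.Agent.NormFin.Field

/-!
# Prime algebras with trivial residue extension; finiteness of subintegral extensions
-/

set_option autoImplicit false
universe u

namespace Groth.Agent.PinchChainLib

/-- a prime algebra with a single point and trivial residue field is the algebra of dual numbers -/
theorem exists_dual {K R : Type u} [Field K] [CommRing R] [Algebra K R] [IsSimpleOrder (Subalgebra K R)]
    (m : Ideal R) [m.IsPrime] (hm : ∀ P : Ideal R, P.IsPrime → P = m) (hres : ∀ r : R, ∃ k, r - algebraMap K R k ∈ m) :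
    ∃ a : R, a * a = 0 ∧ Function.Bijective fun cd : K × K => algebraMap K R cd.1 + algebraMap K R cd.2 * a := by
  have hnil : ∀ x ∈ m, IsNilpotent x := fun x hx => nilpotent_iff_mem_prime.2 fun P hP => (hm P hP).symm ▸ hx
  have hK : ∀ c : K, algebraMap K R c ∈ m → c = 0 := fun c hc => by
    by_contra hne
    exact (inferInstance : m.IsPrime).ne_top (Ideal.eq_top_of_isUnit_mem _ hc ((IsUnit.mk0 c hne).map _))
  obtain ⟨a, ha, ha0⟩ : ∃ a ∈ m, a ≠ 0 := by
    by_contra h
    push Not at h
    refine (bot_ne_top (α := Subalgebra K R)) (eq_top_iff.2 fun r _ => ?_).symm.symm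
    obtain ⟨k, hk⟩ := hres r
    exact Algebra.mem_bot.2 ⟨k, (sub_eq_zero.1 (h _ hk)).symm⟩
  have ha2 : a * a = 0 := by
    rcases eq_bot_or_eq_top (Algebra.adjoin K {a * a} : Subalgebra K R) with h | h
    · obtain ⟨c, hc⟩ := Algebra.mem_bot.1 (h ▸ Algebra.subset_adjoin (Set.mem_singleton (a * a)))
      rw [← hc, hK c (hc ▸ m.mul_mem_left a ha), map_zero]
    · exfalso
      have hmem : a ∈ Algebra.adjoin K {a * a} := by rw [h]; trivial
      have key : ∀ z ∈ Algebra.adjoin K {a * a}, ∃ (c : K) (s : R), z = algebraMap K R c + a * a * s := by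
        intro z hz
        induction hz using Algebra.adjoin_induction with
        | mem x hx => exact ⟨0, 1, by rw [Set.mem_singleton_iff.1 hx]; simp⟩
        | algebraMap r => exact ⟨r, 0, by simp⟩
        | add x y _ _ hx hy =>
          obtain ⟨c, s, rfl⟩ := hx; obtain ⟨d, t, rfl⟩ := hy
          exact ⟨c + d, s + t, by rw [map_add]; ring⟩
        | mul x y _ _ hx hy =>
          obtain ⟨c, s, rfl⟩ := hx; obtain ⟨d, t, rfl⟩ := hy
          exact ⟨c * d, algebraMap K R c * t + algebraMap K R d * s + a * a * (s * t), by rw [map_mul]; ring⟩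
      obtain ⟨c, s, hcs⟩ := key a hmem
      have hc : c = 0 := hK c (by
        rw [show algebraMap K R c = a - a * (a * s) by linear_combination -hcs]
        exact m.sub_mem ha (m.mul_mem_right _ ha))
      rw [hc, map_zero, zero_add] at hcs
      have hu : IsUnit (1 - a * s) := IsNilpotent.isUnit_one_sub (hnil _ (m.mul_mem_right _ ha))
      exact ha0 (hu.mul_left_eq_zero.1 (show a * (1 - a * s) = 0 by linear_combination hcs))
  refine ⟨a, ha2, fun x y hxy => ?_, fun r => ?_⟩
  · obtain ⟨c, d⟩ := x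
    obtain ⟨c', d'⟩ := y
    simp only at hxy
    have h1 : c = c' := sub_eq_zero.1 (hK _ (by
      rw [show algebraMap K R (c - c') = algebraMap K R (d' - d) * a by
        rw [map_sub, map_sub]; linear_combination hxy]
      exact m.mul_mem_left _ ha))
    subst h1
    by_contra hne
    have hd : d - d' ≠ 0 := sub_ne_zero.2 fun h => hne (by rw [h])
    have : algebraMap K R (d - d') * a = 0 := by rw [map_sub]; linear_combination hxy
    exact ha0 (((IsUnit.mk0 _ hd).map (algebraMap K R)).mul_right_eq_zero.1 this)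
  · let S : Subalgebra K R :=
      { carrier := {z | ∃ cd : K × K, algebraMap K R cd.1 + algebraMap K R cd.2 * a = z}
        mul_mem' := by
          rintro _ _ ⟨⟨c, d⟩, rfl⟩ ⟨⟨c', d'⟩, rfl⟩
          exact ⟨(c * c', c * d' + c' * d), by
            simp only [map_mul, map_add]
            linear_combination (-(algebraMap K R d * algebraMap K R d')) * ha2⟩
        add_mem' := by
          rintro _ _ ⟨⟨c, d⟩, rfl⟩ ⟨⟨c', d'⟩, rfl⟩
          exact ⟨(c + c', d + d'), by simp only [map_add]; ring⟩
        algebraMap_mem' := fun c => ⟨(c, 0), by simp⟩ }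
    rcases eq_bot_or_eq_top S with h | h
    · exfalso
      obtain ⟨c, hc⟩ := Algebra.mem_bot.1 (h ▸ (show a ∈ S from ⟨(0, 1), by simp⟩))
      exact ha0 (by rw [← hc, hK c (hc ▸ ha), map_zero])
    · exact show r ∈ S by rw [h]; trivial

theorem exists_mul_eq_zero_of_minimal {R : Type u} [CommRing R] [_root_.IsReduced R] (q : Ideal R) [q.IsPrime]
    (hq : ∀ P : Ideal R, P.IsPrime → P ≤ q → P = q) {z : R} (hz : z ∈ q) : ∃ t ∉ q, t * z = 0 := by
  by_contra hcon
  push Not at hcon
  have hdisj : Disjoint ((⊥ : Ideal R) : Set R) ↑(q.primeCompl ⊔ Submonoid.powers z) := by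
    rw [Set.disjoint_left]
    rintro x hx hxM
    obtain ⟨t, ht, _, ⟨n, rfl⟩, rfl⟩ := Submonoid.mem_sup.1 hxM
    have h0 : t * z ^ n = 0 := hx
    refine hcon t ht (IsNilpotent.eq_zero ⟨n + 1, ?_⟩)
    rw [mul_pow, show t ^ (n + 1) * z ^ (n + 1) = t ^ n * z * (t * z ^ n) by ring, h0, mul_zero]
  obtain ⟨P, hP, -, hPd⟩ := Ideal.exists_le_prime_disjoint ⊥ _ hdisj
  have hPq : P ≤ q := fun x hx => by
    by_contra hxq
    exact Set.disjoint_left.1 hPd hx (Submonoid.mem_sup_left hxq)
  have := hq P hP hPq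
  exact Set.disjoint_left.1 hPd (this ▸ hz) (Submonoid.mem_sup_right (Submonoid.mem_powers z))

section subint

variable {k B B' : Type u} [Field k] [CommRing B] [CommRing B'] [Algebra k B] [Algebra.FiniteType k B]
  [Algebra B B'] [Algebra.IsIntegral B B'] [_root_.IsReduced B']
  (hbij : Function.Bijective (PrimeSpectrum.comap (algebraMap B B')))
  (hRF : ∀ (Q : PrimeSpectrum B') (c : B'), ∃ a s : B,
    algebraMap B B' s ∉ Q.asIdeal ∧ algebraMap B B' s * c - algebraMap B B' a ∈ Q.asIdeal)
include hbij hRF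

omit [Algebra k B] [Algebra.FiniteType k B] in
theorem generic_killed (p : Ideal B) (hp : p ∈ minimalPrimes B) (c : B') :
    ∃ f : B, f ∉ p ∧ algebraMap B B' f * c ∈ Set.range (algebraMap B B') := by
  have hpP : p.IsPrime := hp.1.1
  obtain ⟨⟨q, hqP⟩, hq⟩ := hbij.2 ⟨p, hpP⟩
  have hq' : q.comap (algebraMap B B') = p := congrArg PrimeSpectrum.asIdeal hq
  have hmin : ∀ P : Ideal B', P.IsPrime → P ≤ q → P = q := fun P hP hPq => by
    have hle : P.comap (algebraMap B B') ≤ p := hq' ▸ Ideal.comap_mono hPq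
    have he : P.comap (algebraMap B B') = p := le_antisymm hle (hp.2 ⟨hP.comap _, bot_le⟩ hle)
    exact congrArg PrimeSpectrum.asIdeal (hbij.1 (a₁ := ⟨P, hP⟩) (a₂ := ⟨q, hqP⟩) (PrimeSpectrum.ext (he.trans hq'.symm)))
  obtain ⟨a, s, hs, hz⟩ := hRF ⟨q, hqP⟩ c
  obtain ⟨t, ht, htz⟩ := exists_mul_eq_zero_of_minimal q hmin hz
  let J : Ideal B' := (Ideal.span {algebraMap B B' s * c - algebraMap B B' a}).annihilator
  have hJ : ¬ J.comap (algebraMap B B') ≤ p := fun h => by
    obtain ⟨Q, hQJ, hQP, hQ⟩ := Ideal.exists_ideal_over_prime_of_isIntegral p J h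
    have := congrArg PrimeSpectrum.asIdeal (hbij.1 (a₁ := ⟨Q, hQP⟩) (a₂ := ⟨q, hqP⟩) (PrimeSpectrum.ext (hQ.trans hq'.symm)))
    simp only at this
    exact ht (this ▸ hQJ ((Submodule.mem_annihilator_span_singleton _ _).2 htz))
  obtain ⟨u, huJ, hup⟩ := Set.not_subset.1 hJ
  have h0 : algebraMap B B' u * (algebraMap B B' s * c - algebraMap B B' a) = 0 :=
    (Submodule.mem_annihilator_span_singleton _ _).1 huJ
  refine ⟨u * s, fun h => ?_, u * a, ?_⟩
  · rcases hpP.mem_or_mem h with h | h
    · exact hup h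
    · exact hs (show algebraMap B B' s ∈ q from (hq' ▸ h : s ∈ q.comap (algebraMap B B')))
  · rw [map_mul, map_mul]
    linear_combination -h0

theorem finite_of_subintegral (_hk : Algebra.FiniteType k B) : Module.Finite B B' := by
  haveI : IsNoetherianRing B := Algebra.FiniteType.isNoetherianRing k B
  haveI : Finite (minimalPrimes B) := (minimalPrimes.finite_of_isNoetherianRing B).to_subtype
  choose q hq using fun p : minimalPrimes B => hbij.2 ⟨p.1, p.2.1.1⟩
  have hfin : ∀ p : minimalPrimes B, Module.Finite B (B' ⧸ (q p).asIdeal) := by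
    intro p
    haveI := (q p).isPrime
    let A := B ⧸ (q p).asIdeal.comap (algebraMap B B')
    let D := B' ⧸ (q p).asIdeal
    haveI : Algebra.FiniteType k A := inferInstance
    let K := FractionRing A
    let L := FractionRing D
    have hAD : Function.Injective (algebraMap A D) := FaithfulSMul.algebraMap_injective A D
    have hAL : Function.Injective (algebraMap A L) := by
      rw [IsScalarTower.algebraMap_eq A D L, RingHom.coe_comp]
      exact (IsFractionRing.injective D L).comp hAD
    let _ : Algebra K L := (IsFractionRing.lift (K := K) hAL).toAlgebra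
    haveI : IsScalarTower A K L := .of_algebraMap_eq fun x => (IsFractionRing.lift_algebraMap hAL x).symm
    have hD : ∀ d : D, algebraMap D L d ∈ Set.range (algebraMap K L) := fun d => by
      obtain ⟨c, rfl⟩ := Ideal.Quotient.mk_surjective d
      obtain ⟨a, s, hs, hz⟩ := hRF (q p) c
      have hs0 : algebraMap A K (Ideal.Quotient.mk _ s) ≠ 0 := by
        rw [Ne, map_eq_zero_iff _ (IsFractionRing.injective A K), Ideal.Quotient.eq_zero_iff_mem]
        exact hs
      have hsL : algebraMap A L (Ideal.Quotient.mk _ s) ≠ 0 := by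
        rw [IsScalarTower.algebraMap_apply A K L]
        exact (map_ne_zero _).2 hs0
      refine ⟨algebraMap A K (Ideal.Quotient.mk _ a) / algebraMap A K (Ideal.Quotient.mk _ s), ?_⟩
      rw [map_div₀, ← IsScalarTower.algebraMap_apply, ← IsScalarTower.algebraMap_apply, div_eq_iff hsL]
      show algebraMap D L (Ideal.Quotient.mk _ (algebraMap B B' a)) =
        algebraMap D L (Ideal.Quotient.mk _ c) * algebraMap D L (Ideal.Quotient.mk _ (algebraMap B B' s))
      rw [← map_mul, ← map_mul, mul_comm c, (Ideal.Quotient.eq.2 hz)]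
    have hsurj : Function.Surjective (Algebra.linearMap K L) := fun x => by
      obtain ⟨d, e, -, rfl⟩ := IsFractionRing.div_surjective D x
      obtain ⟨y, hy⟩ := hD d
      obtain ⟨z, hz⟩ := hD e
      exact ⟨y / z, show algebraMap K L (y / z) = _ by rw [map_div₀, hy, hz]⟩
    haveI : Module.Finite K L := Module.Finite.of_surjective (Algebra.linearMap K L) hsurj
    haveI := NormFinLib.finite_integralClosure_of_finiteType_field k A K L
    haveI : Algebra.IsIntegral B D := inferInstance
    haveI : Algebra.IsIntegral A D := Algebra.IsIntegral.tower_top B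
    let g : D →ₐ[A] integralClosure A L := (IsScalarTower.toAlgHom A D L).codRestrict _ fun d =>
      (Algebra.IsIntegral.isIntegral (R := A) d).map (IsScalarTower.toAlgHom A D L)
    haveI : Module.Finite A D := Module.Finite.of_injective g.toLinearMap fun x y h =>
      IsFractionRing.injective D L (congrArg Subtype.val h)
    exact Module.Finite.trans A D
  haveI := hfin
  let e : B' →ₗ[B] Π p : minimalPrimes B, B' ⧸ (q p).asIdeal :=
    LinearMap.pi fun p => (Ideal.Quotient.mkₐ B _).toLinearMap
  refine Module.Finite.of_injective e ((injective_iff_map_eq_zero e).2 fun z hz => ?_)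
  refine IsNilpotent.eq_zero (nilpotent_iff_mem_prime.2 fun Q hQ => ?_)
  obtain ⟨p, hp, hpQ⟩ := Ideal.exists_minimalPrimes_le (J := Q.comap (algebraMap B B')) (I := ⊥) bot_le
  haveI := (q ⟨p, hp⟩).isPrime
  have hqc : (q ⟨p, hp⟩).asIdeal.comap (algebraMap B B') = p := congrArg PrimeSpectrum.asIdeal (hq ⟨p, hp⟩)
  obtain ⟨Q', hQ', hQ'P, hQ'c⟩ := Ideal.exists_ideal_over_prime_of_isIntegral_of_isPrime
    (Q.comap (algebraMap B B')) (q ⟨p, hp⟩).asIdeal (hqc.trans_le hpQ)
  have heq := congrArg PrimeSpectrum.asIdeal (hbij.1 (a₁ := ⟨Q', hQ'P⟩) (a₂ := ⟨Q, hQ⟩) (PrimeSpectrum.ext hQ'c))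
  simp only at heq
  exact heq ▸ hQ' (Ideal.Quotient.eq_zero_iff_mem.1 (congrFun hz ⟨p, hp⟩))

end subint

end Groth.Agent.PinchChainLib
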