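import Groth.Agent.PushLib.Transfer
import Groth.Agent.PushLib.Over
import Groth.Agent.PinchChainLib.Alg
import Groth.Agent.PinchChainLib.SnAlg
import Groth.Agent.SeminormResLib.Main

/-!
# A finite birational map is a composite of pinchings along prime algebras
-/

set_option autoImplicit false
set_option backward.isDefEq.respectTransparency false
set_option backward.isDefEq.respectTransparency.types false
universe u

open CategoryTheory AlgebraicGeometry Limits

namespace Groth.Agent.PinchChainLib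

/-- one pinching along a prime algebra -/
def Step {A B : Scheme.{u}} (f : A ⟶ B) : Prop :=
  ∃ (x : B) (R : Type u) (_ : CommRing R) (_ : Algebra (B.residueField x) R)
    (_ : IsSimpleOrder (Subalgebra (B.residueField x) R)) (j : Spec (CommRingCat.of R) ⟶ A),
    IsClosedImmersion j ∧
      IsPushout j (Spec.map (CommRingCat.ofHom (algebraMap (B.residueField x) R))) f (B.fromSpecResidueField x)

theorem isSimpleOrder_of_surjective {k K R : Type u} [CommRing k] [CommRing K] [CommRing R] (g : k →+* K)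
    (hg : Function.Surjective g) (φ : K →+* R)
    (h : letI := φ.toAlgebra; IsSimpleOrder (Subalgebra K R)) :
    letI := (φ.comp g).toAlgebra; IsSimpleOrder (Subalgebra k R) := by
  letI := φ.toAlgebra
  letI := g.toAlgebra
  letI := (φ.comp g).toAlgebra
  haveI : IsScalarTower k K R := .of_algebraMap_eq' rfl
  let e : Subalgebra K R ≃o Subalgebra k R :=
    { toFun := fun S => S.restrictScalars k
      invFun := fun S => Subalgebra.mk S.toSubsemiring fun r => by
        obtain ⟨r, rfl⟩ := hg r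
        exact S.algebraMap_mem r
      left_inv := fun S => SetLike.ext fun _ => Iff.rfl
      right_inv := fun S => SetLike.ext fun _ => Iff.rfl
      map_rel_iff' := Iff.rfl }
  haveI := h
  exact e.isSimpleOrder_iff.1 h

theorem step_of_isPushout {A B : Scheme.{u}} {K R : Type u} [Field K] [CommRing R] (φ : K →+* R)
    (h : letI := φ.toAlgebra; IsSimpleOrder (Subalgebra K R))
    (j : Spec (CommRingCat.of R) ⟶ A) [IsClosedImmersion j] {a : A ⟶ B} {b : Spec (CommRingCat.of K) ⟶ B}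
    [IsClosedImmersion b] (hP : IsPushout j (Spec.map (CommRingCat.ofHom φ)) a b) : Step a := by
  obtain ⟨⟨x, g⟩, hb⟩ := (Scheme.SpecToEquivOfField K B).symm.surjective b
  subst hb
  change IsPushout j _ a (Spec.map g ≫ B.fromSpecResidueField x) at hP
  haveI : IsClosedImmersion (Spec.map g ≫ B.fromSpecResidueField x) := ‹_›
  haveI : IsClosedImmersion (Spec.map g) := IsClosedImmersion.of_comp (Spec.map g) (B.fromSpecResidueField x)
  have hsurj : Function.Surjective g.hom := fun k => by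
    obtain ⟨y, hy⟩ := (Spec.map g).app_surjective ⊤ (isAffineOpen_top _) ((Scheme.ΓSpecIso (CommRingCat.of K)).inv k)
    refine ⟨(Scheme.ΓSpecIso (B.residueField x)).hom y, ?_⟩
    have := ConcreteCategory.congr_hom (Scheme.ΓSpecIso_naturality g) y
    simp only [CommRingCat.comp_apply] at this
    exact this.symm.trans ((congrArg (Scheme.ΓSpecIso (CommRingCat.of K)).hom hy).trans (by simp))
  haveI : IsIso g := (ConcreteCategory.isIso_iff_bijective g).2 ⟨g.hom.injective, hsurj⟩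
  letI := (φ.comp g.hom).toAlgebra
  refine ⟨x, R, inferInstance, inferInstance, isSimpleOrder_of_surjective g.hom hsurj φ h, j, inferInstance, ?_⟩
  refine hP.of_iso (Iso.refl _) (Iso.refl _) (asIso (Spec.map g)) (Iso.refl _) (by simp) ?_ (by simp) (by simp)
  simp only [Iso.refl_hom, Category.id_comp, asIso_hom, ← Spec.map_comp]
  rfl

/-- one pinching along dual numbers -/
def StepDual {A B : Scheme.{u}} (f : A ⟶ B) : Prop :=
  ∃ (x : B) (_ : IsClosed ({x} : Set B))
    (j : Spec (CommRingCat.of (DualNumber (B.residueField x))) ⟶ A),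
    IsClosedImmersion j ∧
      IsPushout j (Spec.map (CommRingCat.ofHom (algebraMap (B.residueField x) (DualNumber (B.residueField x))))) f
        (B.fromSpecResidueField x)

theorem stepDual_of_isPushout {A B : Scheme.{u}} {K R : Type u} [Field K] [CommRing R] (φ : K →+* R)
    (h : letI := φ.toAlgebra; IsSimpleOrder (Subalgebra K R)) (m : Ideal R) [m.IsPrime]
    (hm : ∀ P : Ideal R, P.IsPrime → P = m) (hres : ∀ r : R, ∃ k, r - φ k ∈ m)
    (j : Spec (CommRingCat.of R) ⟶ A) [IsClosedImmersion j] {a : A ⟶ B} {b : Spec (CommRingCat.of K) ⟶ B}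
    [IsClosedImmersion b] (hP : IsPushout j (Spec.map (CommRingCat.ofHom φ)) a b) : StepDual a := by
  obtain ⟨⟨x, g⟩, hb⟩ := (Scheme.SpecToEquivOfField K B).symm.surjective b
  subst hb
  change IsPushout j _ a (Spec.map g ≫ B.fromSpecResidueField x) at hP
  haveI : IsClosedImmersion (Spec.map g ≫ B.fromSpecResidueField x) := ‹_›
  haveI : IsClosedImmersion (Spec.map g) := IsClosedImmersion.of_comp (Spec.map g) (B.fromSpecResidueField x)
  have hsurj : Function.Surjective g.hom := fun k => by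
    obtain ⟨y, hy⟩ := (Spec.map g).app_surjective ⊤ (isAffineOpen_top _) ((Scheme.ΓSpecIso (CommRingCat.of K)).inv k)
    refine ⟨(Scheme.ΓSpecIso (B.residueField x)).hom y, ?_⟩
    have := ConcreteCategory.congr_hom (Scheme.ΓSpecIso_naturality g) y
    simp only [CommRingCat.comp_apply] at this
    exact this.symm.trans ((congrArg (Scheme.ΓSpecIso (CommRingCat.of K)).hom hy).trans (by simp))
  haveI : IsIso g := (ConcreteCategory.isIso_iff_bijective g).2 ⟨g.hom.injective, hsurj⟩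
  have hclosed : IsClosed ({x} : Set B) := by
    have h1 := (Spec.map g ≫ B.fromSpecResidueField x).isClosedEmbedding.isClosed_range
    have h2 : Set.range (Spec.map g ≫ B.fromSpecResidueField x) = {x} := by
      refine Set.eq_singleton_iff_nonempty_unique_mem.2 ⟨Set.range_nonempty _, ?_⟩
      rintro _ ⟨y, rfl⟩
      exact Scheme.fromSpecResidueField_apply x (Spec.map g y)
    rwa [h2] at h1
  letI := φ.toAlgebra
  haveI := h
  obtain ⟨c, hc, hbij⟩ := exists_dual (K := K) m hm hres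
  letI : Algebra (B.residueField x) R := (φ.comp g.hom).toAlgebra
  let ψ : DualNumber (B.residueField x) →+* R :=
    (DualNumber.lift ⟨(Algebra.ofId (B.residueField x) R, c), hc, fun _ => Commute.all _ _⟩).toRingHom
  have hψ : ∀ t, ψ t = φ (g.hom (TrivSqZeroExt.fst t)) + φ (g.hom (TrivSqZeroExt.snd t)) * c := fun t => by
    simp only [ψ, AlgHom.toRingHom_eq_coe, RingHom.coe_coe, DualNumber.lift_apply_apply]
    rfl
  haveI : IsIso (CommRingCat.ofHom ψ) := by
    rw [ConcreteCategory.isIso_iff_bijective]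
    refine ⟨fun t t' ht => ?_, fun r => ?_⟩
    · have h1 : (φ (g.hom (TrivSqZeroExt.fst t)) + φ (g.hom (TrivSqZeroExt.snd t)) * c) =
          φ (g.hom (TrivSqZeroExt.fst t')) + φ (g.hom (TrivSqZeroExt.snd t')) * c := by
        rw [← hψ, ← hψ]; exact ht
      have h2 := hbij.1 (a₁ := (g.hom (TrivSqZeroExt.fst t), g.hom (TrivSqZeroExt.snd t)))
        (a₂ := (g.hom (TrivSqZeroExt.fst t'), g.hom (TrivSqZeroExt.snd t'))) h1
      simp only [Prod.mk.injEq] at h2
      exact TrivSqZeroExt.ext (g.hom.injective h2.1) (g.hom.injective h2.2)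
    · obtain ⟨⟨u, v⟩, huv⟩ := hbij.2 r
      obtain ⟨u', rfl⟩ := hsurj u
      obtain ⟨v', rfl⟩ := hsurj v
      refine ⟨TrivSqZeroExt.inl u' + TrivSqZeroExt.inr v', ?_⟩
      show ψ _ = r
      rw [hψ]
      simp
      exact huv
  refine ⟨x, hclosed, inv (Spec.map (CommRingCat.ofHom ψ)) ≫ j, ?_, ?_⟩
  · infer_instance
  refine hP.of_iso (asIso (Spec.map (CommRingCat.ofHom ψ))) (Iso.refl _) (asIso (Spec.map g)) (Iso.refl _) (by simp) ?_
    (by simp) (by simp)
  simp only [asIso_hom, ← Spec.map_comp]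
  refine congrArg Spec.map (CommRingCat.hom_ext (RingHom.ext fun t => ?_))
  show φ (g.hom t) = ψ (algebraMap _ (DualNumber (B.residueField x)) t)
  rw [hψ]
  simp [TrivSqZeroExt.algebraMap_eq_inl]

section general

variable {X Y : Scheme.{u}} (f : X ⟶ Y)

theorem isIso_restrict_of_le {W V : Y.Opens} (h : V ≤ W) [IsIso (f ∣_ W)] : IsIso (f ∣_ V) := by
  have e : W.ι ''ᵁ (W.ι ⁻¹ᵁ V) = V := by
    rw [Scheme.Hom.image_preimage_eq_opensRange_inf, Scheme.Opens.opensRange_ι, inf_eq_right.2 h]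
  have h1 : MorphismProperty.isomorphisms Scheme.{u} (f ∣_ W ∣_ (W.ι ⁻¹ᵁ V)) :=
    IsZariskiLocalAtTarget.restrict ‹IsIso (f ∣_ W)› _
  rw [(MorphismProperty.isomorphisms Scheme.{u}).arrow_mk_iso_iff (morphismRestrictRestrict f W _), e] at h1
  exact h1

theorem bijective_app_of_isIso_restrict (V : Y.Opens) [IsIso (f ∣_ V)] : Function.Bijective (f.app V) := by
  haveI : IsIso (f ∣_ V).appTop := inferInstanceAs (IsIso ((f ∣_ V).app ⊤))
  have h := ConcreteCategory.bijective_of_isIso (f ∣_ V).appTop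
  rw [morphismRestrict_appTop] at h
  have h' : Function.Bijective ((X.presheaf.map (eqToHom (image_morphismRestrict_preimage f V ⊤)).op) ∘
      (f.app (V.ι ''ᵁ ⊤))) := h
  have e : V.ι ''ᵁ ⊤ = V := by simp
  rw [← e]
  exact (Function.Bijective.of_comp_iff' (ConcreteCategory.bijective_of_isIso
    (X.presheaf.map (eqToHom (image_morphismRestrict_preimage f V ⊤)).op)) _).1 h'

theorem isIso_restrict_of_bijective [IsAffineHom f] {U : Y.Opens} (hU : IsAffineOpen U)
    (h : Function.Bijective (f.app U)) : IsIso (f ∣_ U) := by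
  haveI : IsAffine (U : Scheme) := hU
  haveI : IsAffine ((f ⁻¹ᵁ U : X.Opens) : Scheme) := hU.preimage f
  have e : U.ι ''ᵁ ⊤ = U := by simp
  haveI : IsIso (f.app (U.ι ''ᵁ ⊤)) := by
    rw [ConcreteCategory.isIso_iff_bijective, e]; exact h
  show MorphismProperty.isomorphisms Scheme.{u} (f ∣_ U)
  rw [(MorphismProperty.isomorphisms Scheme.{u}).arrow_mk_iso_iff (arrowIsoSpecΓOfIsAffine (f ∣_ U))]
  haveI : IsIso (f ∣_ U).appTop := by
    rw [ConcreteCategory.isIso_iff_bijective, morphismRestrict_appTop]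
    exact (ConcreteCategory.bijective_of_isIso
      (X.presheaf.map (eqToHom (image_morphismRestrict_preimage f U ⊤)).op)).comp
      (ConcreteCategory.bijective_of_isIso (f.app (U.ι ''ᵁ ⊤)))
  show IsIso (Spec.map (f ∣_ U).appTop)
  infer_instance

theorem killed_of_bijective [IsAffineHom f] {U : Y.Opens} (hU : IsAffineOpen U) (g : Γ(Y, U))
    (h : Function.Bijective (f.app (Y.basicOpen g))) :
    letI := (f.app U).hom.toAlgebra
    Killed Γ(Y, U) Γ(X, f ⁻¹ᵁ U) g := by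
  letI := (f.app U).hom.toAlgebra
  intro c
  have hle : Y.basicOpen g ≤ U := Y.basicOpen_le g
  obtain ⟨z, hz⟩ := h.2 (X.presheaf.map (homOfLE (f.preimage_mono hle)).op c)
  haveI := hU.isLocalization_basicOpen g
  obtain ⟨n, r, hr⟩ := IsLocalization.Away.surj (S := Γ(Y, Y.basicOpen g)) g z
  have key : ∀ (W : X.Opens) (hW : W ≤ f ⁻¹ᵁ U) (_ : W = X.basicOpen (f.app U g)) (y : Γ(X, f ⁻¹ᵁ U)),
      X.presheaf.map (homOfLE hW).op y = 0 → ∃ m : ℕ, f.app U g ^ m * y = 0 := by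
    rintro W hW rfl y hy
    haveI := (hU.preimage f).isLocalization_basicOpen (f.app U g)
    have hy' : algebraMap Γ(X, f ⁻¹ᵁ U) Γ(X, X.basicOpen (f.app U g)) y = 0 := hy
    have h0 : algebraMap Γ(X, f ⁻¹ᵁ U) Γ(X, X.basicOpen (f.app U g)) y =
        algebraMap Γ(X, f ⁻¹ᵁ U) Γ(X, X.basicOpen (f.app U g)) 0 := by rw [hy', map_zero]
    obtain ⟨⟨_, m, rfl⟩, hm⟩ := (IsLocalization.eq_iff_exists (.powers (f.app U g)) _).1 h0
    exact ⟨m, by simpa using hm⟩
  have hnat : ∀ s, X.presheaf.map (homOfLE (f.preimage_mono hle)).op (f.app U s) =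
      f.app (Y.basicOpen g) (Y.presheaf.map (homOfLE hle).op s) := fun s =>
    (ConcreteCategory.congr_hom (f.naturality (homOfLE hle).op) s).symm
  have hr' : z * Y.presheaf.map (homOfLE hle).op g ^ n = Y.presheaf.map (homOfLE hle).op r := hr
  obtain ⟨m, hm⟩ := key _ (f.preimage_mono hle) (Scheme.preimage_basicOpen f g) (f.app U g ^ n * c - f.app U r) (by
    rw [map_sub, map_mul, map_pow, hnat, hnat, ← hz, ← map_pow, ← map_mul, mul_comm, hr', sub_self])
  refine ⟨m + n, g ^ m * r, ?_⟩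
  show f.app U (g ^ m * r) = f.app U g ^ (m + n) * c
  rw [map_mul, map_pow, pow_add]
  linear_combination -hm

theorem eq_fromSpec_of_mem {U : Y.Opens} (hU : IsAffineOpen U) {x : Y} (hx : IsClosed ({x} : Set Y))
    (P : PrimeSpectrum Γ(Y, U)) (hP : ∀ g : Γ(Y, U), x ∉ Y.basicOpen g → g ∈ P.asIdeal) : hU.fromSpec P = x := by
  by_contra hne
  have hyU : hU.fromSpec P ∈ U := by
    have := Set.mem_range_self (f := hU.fromSpec) P
    rwa [hU.range_fromSpec] at this
  obtain ⟨g, hg, hyg⟩ := hU.exists_basicOpen_le (V := ⟨{x}ᶜ, hx.isOpen_compl⟩) ⟨hU.fromSpec P, hne⟩ hyU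
  have h1 : P ∈ PrimeSpectrum.basicOpen g := by
    rw [← hU.fromSpec_preimage_basicOpen g]; exact hyg
  exact h1 (hP g fun h => hg h rfl)

theorem appLE_inj_surj {R : Y.Opens} {U' : X.Opens} (e : U' = f ⁻¹ᵁ R) :
    (Function.Injective (f.appLE R U' e.le) → Function.Injective (f.app R)) ∧
      (Function.Surjective (f.app R) → Function.Surjective (f.appLE R U' e.le)) := by
  subst e
  rw [Scheme.Hom.appLE_eq_app]
  exact ⟨id, id⟩

theorem appLE_specMap_fromSpec {U : Y.Opens} (hU : IsAffineOpen U) {R : CommRingCat.{u}} (π : Γ(Y, U) ⟶ R)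
    (e : (⊤ : (Spec R).Opens) ≤ (Spec.map π ≫ hU.fromSpec) ⁻¹ᵁ U) :
    (Spec.map π ≫ hU.fromSpec).appLE U ⊤ e = π ≫ (Scheme.ΓSpecIso R).inv := by
  refine Spec.map_injective ((cancel_mono hU.fromSpec).1 ?_)
  rw [hU.SpecMap_appLE_fromSpec _ (isAffineOpen_top _), Spec.map_comp, IsAffineOpen.fromSpec_top,
    Scheme.isoSpec_Spec_inv, Category.assoc]

end general

section nice

open PushLib

variable {Z X T : Scheme.{u}} {i : Z ⟶ X} {j : Z ⟶ T} [IsClosedImmersion i]
  (hY : ∀ y : T, ∃ p : Nice i j, y ∈ p.V)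

theorem isIso_a_restrict (O : (Nice.P i j).Opens) (hO : ∀ t, Nice.b hY t ∉ O) : IsIso (Nice.a hY ∣_ O) := by
  have hloc : ∀ w : O, ∃ R : (Nice.P i j).Opens, R ≤ O ∧ w.1 ∈ R ∧ IsIso (Nice.a hY ∣_ R) := by
    rintro ⟨w, hw⟩
    obtain ⟨x, rfl⟩ : ∃ x, Nice.a hY x = w :=
      (exists_or hY (Nice.isPushout hY) w).resolve_right fun ⟨t, ht⟩ => hO t (ht ▸ hw)
    have hxi : x ∉ Set.range i := by
      rintro ⟨z, rfl⟩
      refine hO (j z) ?_
      rw [← Scheme.Hom.comp_apply, ← Nice.w hY]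
      exact hw
    obtain ⟨V, hV, hxV, hVc⟩ := exists_isAffineOpen_mem_and_subset (X := X) (x := x)
      (U := Nice.a hY ⁻¹ᵁ O ⊓ ⟨(Set.range i)ᶜ, i.isClosedEmbedding.isClosed_range.isOpen_compl⟩) ⟨hw, hxi⟩
    have heq : i ⁻¹ᵁ V = j ⁻¹ᵁ (⊥ : T.Opens) := by
      ext z
      exact iff_of_false (fun h => (hVc h).2 ⟨z, rfl⟩) (by simp)
    let p : Nice i j := ⟨V, ⊥, hV, isAffineOpen_bot T, heq⟩
    haveI hs1 : Subsingleton Γ(T, p.V) :=
      CommRingCat.subsingleton_of_isTerminal T.sheaf.isTerminalOfEmpty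
    haveI hs2 : Subsingleton Γ(Z, i ⁻¹ᵁ p.U) := by
      show Subsingleton Γ(Z, i ⁻¹ᵁ V)
      rw [heq, show j ⁻¹ᵁ (⊥ : T.Opens) = ⊥ from rfl]
      exact CommRingCat.subsingleton_of_isTerminal Z.sheaf.isTerminalOfEmpty
    haveI : IsIso (CommRingCat.ofHom p.sq.v) := by
      rw [ConcreteCategory.isIso_iff_bijective]
      exact ⟨fun a b h => p.sq.inj a b (Subsingleton.elim _ _) h,
        fun c => ⟨⟨(0, c), Subsingleton.elim (α := Γ(Z, i ⁻¹ᵁ p.U)) _ _⟩, rfl⟩⟩
    refine ⟨p.ι.opensRange, ?_, ?_, ?_⟩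
    · intro w' hw'
      rcases exists_or hY (Nice.isPushout hY) w' with ⟨x', rfl⟩ | ⟨t, rfl⟩
      · have : x' ∈ Nice.a hY ⁻¹ᵁ p.ι.opensRange := hw'
        rw [Nice.preimage_a] at this
        exact (hVc this).1
      · have : t ∈ Nice.b hY ⁻¹ᵁ p.ι.opensRange := hw'
        rw [Nice.preimage_b] at this
        exact this.elim
    · have : x ∈ Nice.a hY ⁻¹ᵁ p.ι.opensRange := by rw [Nice.preimage_a]; exact hxV
      exact this
    · have hpb := (Nice.isPullback_a hY p).flip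
      have h1 : MorphismProperty.isomorphisms Scheme.{u} (pullback.snd (Nice.a hY) p.ι) := by
        rw [← (MorphismProperty.isomorphisms Scheme.{u}).cancel_left_of_respectsIso hpb.isoPullback.hom,
          hpb.isoPullback_hom_snd]
        show IsIso (Spec.map (CommRingCat.ofHom p.sq.v))
        infer_instance
      exact ((MorphismProperty.isomorphisms Scheme.{u}).arrow_mk_iso_iff
        (morphismRestrictOpensRange (Nice.a hY) p.ι)).2 h1
  choose R hR hwR hiso using hloc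
  refine IsZariskiLocalAtTarget.of_iSup_eq_top (P := MorphismProperty.isomorphisms Scheme.{u})
    (fun w : O => O.ι ⁻¹ᵁ R w) (top_le_iff.1 fun w _ => TopologicalSpace.Opens.mem_iSup.2 ⟨w, hwR w⟩) fun w => ?_
  rw [(MorphismProperty.isomorphisms Scheme.{u}).arrow_mk_iso_iff (morphismRestrictRestrict _ O _)]
  have e : O.ι ''ᵁ (O.ι ⁻¹ᵁ R w) = R w := by
    rw [Scheme.Hom.image_preimage_eq_opensRange_inf, Scheme.Opens.opensRange_ι, inf_eq_right.2 (hR w)]
  rw [e]
  exact hiso w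

theorem exists_appLE_chart (p : Nice i j) :
    ∃ α : Γ(Nice.P i j, p.ι.opensRange) ⟶ CommRingCat.of p.ring, IsIso α ∧
      (Nice.a hY).appLE p.ι.opensRange p.U (Nice.preimage_a hY p).ge = α ≫ CommRingCat.ofHom p.sq.v := by
  haveI : IsOpenImmersion p.ι := inferInstance
  have hR : IsAffineOpen p.ι.opensRange := isAffineOpen_opensRange p.ι
  let e := IsOpenImmersion.isoOfRangeEq p.ι hR.fromSpec (by rw [hR.range_fromSpec]; rfl)
  refine ⟨Spec.preimage e.hom, ?_, ?_⟩
  · exact ⟨⟨Spec.preimage e.inv, Spec.map_injective (by simp), Spec.map_injective (by simp)⟩⟩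
  · refine Spec.map_injective ((cancel_mono hR.fromSpec).1 ?_)
    rw [hR.SpecMap_appLE_fromSpec _ p.hU, Spec.map_comp, Spec.map_preimage, Category.assoc,
      IsOpenImmersion.isoOfRangeEq_hom_fac, Nice.fromSpec_a]

end nice

open PushLib in
/-- the chart of the pinching -/
theorem chart_props {X : Scheme.{u}} {U' : X.Opens} (hU' : IsAffineOpen U') {K R : CommRingCat.{u}}
    (π : Γ(X, U') ⟶ R) (ξ0 : K ⟶ R) (hξ : Function.Injective ξ0)
    [IsClosedImmersion (Spec.map π ≫ hU'.fromSpec)]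
    (heq : (Spec.map π ≫ hU'.fromSpec) ⁻¹ᵁ U' = Spec.map ξ0 ⁻¹ᵁ ⊤)
    (hY : ∀ y, ∃ p : Nice (Spec.map π ≫ hU'.fromSpec) (Spec.map ξ0), y ∈ p.V) :
    let p0 : Nice (Spec.map π ≫ hU'.fromSpec) (Spec.map ξ0) := ⟨U', ⊤, hU', isAffineOpen_top _, heq⟩
    Function.Injective ((Nice.a hY).app p0.ι.opensRange) ∧
      (Function.Surjective ((Nice.a hY).app p0.ι.opensRange) → ∀ c : Γ(X, U'), ∃ k : K, ξ0 k = π c) := by
  intro p0
  have hle : ⊤ ≤ (Spec.map π ≫ hU'.fromSpec) ⁻¹ᵁ U' := le_of_eq (heq.trans rfl).symm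
  have hres : ∀ w : p0.ring, ξ0 ((Scheme.ΓSpecIso K).hom w.1.1) = π w.1.2 := by
    rintro ⟨⟨tt, c⟩, h⟩
    have h1 := congrArg ((Spec R).presheaf.map (homOfLE hle).op) h
    have e1 : p0.q ≫ (Spec R).presheaf.map (homOfLE hle).op = (Spec.map ξ0).appTop := by
      rw [Nice.q, Scheme.Hom.appLE_map]
      exact Scheme.Hom.appLE_eq_app _
    have e2 : p0.p' ≫ (Spec R).presheaf.map (homOfLE hle).op = π ≫ (Scheme.ΓSpecIso R).inv :=
      appLE_specMap_fromSpec hU' π hle
    have h2 : (Spec.map ξ0).appTop tt = (π ≫ (Scheme.ΓSpecIso R).inv) c := by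
      rw [← e1, ← e2]; exact h1
    have h3 := congrArg (Scheme.ΓSpecIso R).hom h2
    have h4 := ConcreteCategory.congr_hom (Scheme.ΓSpecIso_naturality ξ0) tt
    simp only [CommRingCat.comp_apply] at h4 h3
    exact h4.symm.trans (h3.trans (by simp))
  have hvinj : Function.Injective p0.sq.v := fun w w' h => by
    have h' : w.1.2 = w'.1.2 := h
    have h1 := (hres w).trans ((congrArg (fun c => π c) h').trans (hres w').symm)
    exact p0.sq.inj w w' ((ConcreteCategory.bijective_of_isIso (Scheme.ΓSpecIso K).hom).1 (hξ h1)) h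
  obtain ⟨α, hα, hαeq⟩ := exists_appLE_chart hY p0
  haveI := hα
  have hchart := appLE_inj_surj (Nice.a hY) (R := p0.ι.opensRange) (U' := p0.U) (Nice.preimage_a hY p0).symm
  rw [hαeq] at hchart
  refine ⟨hchart.1 (hvinj.comp (ConcreteCategory.bijective_of_isIso α).1), fun h c => ?_⟩
  obtain ⟨r, hr⟩ := hchart.2 h c
  let w : p0.ring := α r
  have hc : w.1.2 = c := hr
  exact ⟨(Scheme.ΓSpecIso K).hom w.1.1, (hres w).trans (congrArg (fun c => π c) hc)⟩

open PushLib in
set_option maxHeartbeats 1000000 in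
/-- the pinching at one point -/
theorem exists_pinch {X X' : Scheme.{u}} (β : X ⟶ X') [IsAffineHom β] (x : X') (hx : IsClosed ({x} : Set X'))
    (U : X'.Opens) (hU : IsAffineOpen U) (hxU : x ∈ U) (hinj : Function.Injective (β.app U))
    (hlen : len (β.app U) ≠ ⊤) (hns : ¬ Function.Surjective (β.app U))
    (hk : ∀ g : Γ(X', U), x ∉ X'.basicOpen g → Function.Bijective (β.app (X'.basicOpen g))) :
    ∃ (P : Scheme.{u}) (a : X ⟶ P) (q : P ⟶ X'), a ≫ q = β ∧ (∀ (B : Scheme.{u}) (e : P ≅ B), Step (a ≫ e.hom)) ∧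
      (Surjective a ∧ (Function.Injective β → HTop.ResidueFieldsIso β → ∀ (B : Scheme.{u}) (e : P ≅ B), StepDual (a ≫ e.hom))) ∧
      IsAffineHom q ∧
      Function.Injective (a.app (q ⁻¹ᵁ U)) ∧ ¬ Function.Surjective (a.app (q ⁻¹ᵁ U)) ∧
      ∀ W : X'.Opens, x ∉ W → IsIso (a ∣_ (q ⁻¹ᵁ W)) := by
  letI := (β.app U).hom.toAlgebra
  obtain ⟨hfin, hnoe⟩ := finite_and_noetherian_of_len _ hlen
  haveI := hfin
  haveI := hnoe
  obtain ⟨D, I, hDtop, hID, hmax, hsimple, hkI⟩ := exists_maximal_step (B := Γ(X', U)) (C := Γ(X, β ⁻¹ᵁ U)) hns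
  have hk' : ∀ g : Γ(X', U), x ∉ X'.basicOpen g → β.app U g ∈ I := fun g hg =>
    hkI g (killed_of_bijective β hU g (hk g hg))
  haveI := hmax
  letI : Field (D.toSubring ⧸ I.comap D.toSubring.subtype) := Ideal.Quotient.field _
  have hU' : IsAffineOpen (β ⁻¹ᵁ U) := hU.preimage β
  let π : Γ(X, β ⁻¹ᵁ U) ⟶ CommRingCat.of (Γ(X, β ⁻¹ᵁ U) ⧸ I) := CommRingCat.ofHom (Ideal.Quotient.mk I)
  let ξ0 : CommRingCat.of (D.toSubring ⧸ I.comap D.toSubring.subtype) ⟶ CommRingCat.of (Γ(X, β ⁻¹ᵁ U) ⧸ I) :=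
    CommRingCat.ofHom (Ideal.quotientMap I D.toSubring.subtype le_rfl)
  let θ : Γ(X', U) →+* D.toSubring :=
    (β.app U).hom.codRestrict D.toSubring fun g => D.algebraMap_mem g
  let τ : Γ(X', U) ⟶ CommRingCat.of (D.toSubring ⧸ I.comap D.toSubring.subtype) :=
    CommRingCat.ofHom ((Ideal.Quotient.mk _).comp θ)
  let ι := Spec.map π ≫ hU'.fromSpec
  let ξ := Spec.map ξ0
  let t := Spec.map τ ≫ hU.fromSpec
  haveI : IsClosedImmersion (Spec.map π) := IsClosedImmersion.spec_of_surjective π Ideal.Quotient.mk_surjective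
  have hcomp : β.app U ≫ π = τ ≫ ξ0 := rfl
  have hsq : ι ≫ β = ξ ≫ t := by
    have := hU.SpecMap_appLE_fromSpec β hU' (V := β ⁻¹ᵁ U) le_rfl
    simp only [Scheme.Hom.appLE_eq_app] at this
    show (Spec.map π ≫ hU'.fromSpec) ≫ β = Spec.map ξ0 ≫ Spec.map τ ≫ hU.fromSpec
    rw [Category.assoc, ← this, ← Category.assoc, ← Category.assoc, ← Spec.map_comp, ← Spec.map_comp, hcomp]
  have ht : ∀ y, t y = x := fun y => eq_fromSpec_of_mem hU hx _ fun g hg => by
    show τ g ∈ y.asIdeal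
    have : τ g = 0 := Ideal.Quotient.eq_zero_iff_mem.2 (show (θ g : Γ(X, β ⁻¹ᵁ U)) ∈ I from hk' g hg)
    rw [this]; exact y.asIdeal.zero_mem
  have hιx : ∀ z, β (ι z) = x := fun z => by
    rw [← Scheme.Hom.comp_apply, hsq, Scheme.Hom.comp_apply]; exact ht _
  haveI : IsClosedImmersion ι := by
    refine IsClosedImmersion.of_isPreimmersion ι ?_
    obtain ⟨C, hC, hCeq⟩ := hU'.fromSpec.isOpenEmbedding.isInducing.isClosed_iff.1
      (Spec.map π).isClosedEmbedding.isClosed_range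
    have : Set.range ι = C ∩ β ⁻¹' {x} := by
      ext w
      constructor
      · rintro ⟨z, rfl⟩
        exact ⟨(Set.ext_iff.1 hCeq _).2 ⟨z, rfl⟩, hιx z⟩
      · rintro ⟨hwC, hwx⟩
        have hwU : w ∈ β ⁻¹ᵁ U := show β w ∈ U from (show β w = x from hwx) ▸ hxU
        obtain ⟨y, rfl⟩ : w ∈ Set.range hU'.fromSpec := by rw [hU'.range_fromSpec]; exact hwU
        obtain ⟨z, rfl⟩ := (Set.ext_iff.1 hCeq y).1 hwC
        exact ⟨z, rfl⟩
    rw [this]
    exact hC.inter (hx.preimage β.continuous)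
  have hι_top : ι ⁻¹ᵁ (β ⁻¹ᵁ U) = ⊤ := top_le_iff.1 fun z _ => show β (ι z) ∈ U from (hιx z).symm ▸ hxU
  let p0 : Nice ι ξ := ⟨β ⁻¹ᵁ U, ⊤, hU', isAffineOpen_top _, hι_top.trans ξ.preimage_top.symm⟩
  have hY : ∀ y, ∃ p : Nice ι ξ, y ∈ p.V := fun y => ⟨p0, trivial⟩
  obtain ⟨q, haq, hbq⟩ := Nice.exists_desc hY β t hsq
  have hb : ∀ y, q (Nice.b hY y) = x := fun y => by
    rw [← Scheme.Hom.comp_apply, hbq]; exact ht y
  have hrange : p0.ι.opensRange = q ⁻¹ᵁ U := by
    ext w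
    rcases exists_or hY (Nice.isPushout hY) w with ⟨z, rfl⟩ | ⟨y, rfl⟩
    · show z ∈ Nice.a hY ⁻¹ᵁ p0.ι.opensRange ↔ (Nice.a hY ≫ q) z ∈ U
      rw [Nice.preimage_a, haq]; rfl
    · show y ∈ Nice.b hY ⁻¹ᵁ p0.ι.opensRange ↔ q (Nice.b hY y) ∈ U
      rw [Nice.preimage_b, hb]
      exact iff_of_true trivial hxU
  have hiso : ∀ W : X'.Opens, x ∉ W → IsIso (Nice.a hY ∣_ (q ⁻¹ᵁ W)) := fun W hW =>
    isIso_a_restrict hY _ fun y hy => hW ((hb y) ▸ hy)
  -- the chart
  obtain ⟨hinja, hsurja⟩ := chart_props hU' π ξ0 Ideal.quotientMap_injective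
    (hι_top.trans ξ.preimage_top.symm) hY
  have hnsa : ¬ Function.Surjective ((Nice.a hY).app p0.ι.opensRange) := fun h => hDtop (eq_top_iff.2 fun c _ => by
    obtain ⟨k, hk⟩ := hsurja h c
    obtain ⟨d, rfl⟩ := Ideal.Quotient.mk_surjective k
    have : (d : Γ(X, β ⁻¹ᵁ U)) - c ∈ I := Ideal.Quotient.eq.1 hk
    simpa using D.sub_mem d.2 (hID _ this))
  rw [hrange] at hinja hnsa
  haveI : IsClosedImmersion (Nice.b hY) := Nice.isClosedImmersion_b hY
  refine ⟨_, Nice.a hY, q, haq, fun B e => ?_, ?_, ?_, hinja, hnsa, hiso⟩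
  · exact step_of_isPushout _ hsimple ι (a := Nice.a hY ≫ e.hom) (b := Nice.b hY ≫ e.hom)
      ((Nice.isPushout hY).of_iso (Iso.refl _) (Iso.refl _) (Iso.refl _) e (by simp) (by simp [ξ, ξ0]) (by simp) (by simp))
  · haveI : Nontrivial (Γ(X, β ⁻¹ᵁ U) ⧸ I) := Ideal.Quotient.nontrivial_iff.2 fun h => hDtop (eq_top_iff.2 fun c _ =>
      hID c (h ▸ trivial))
    refine ⟨⟨fun w => ?_⟩, fun hβinj hβres B e => ?_⟩
    · rcases exists_or hY (Nice.isPushout hY) w with ⟨z, hz⟩ | ⟨y, hy⟩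
      · exact ⟨z, hz⟩
      · let z : PrimeSpectrum (Γ(X, β ⁻¹ᵁ U) ⧸ I) := Classical.arbitrary _
        refine ⟨ι z, ?_⟩
        rw [← Scheme.Hom.comp_apply, Nice.w hY, Scheme.Hom.comp_apply, ← hy]
        exact congrArg _ (Subsingleton.elim (α := PrimeSpectrum (D.toSubring ⧸ I.comap D.toSubring.subtype)) _ _)
    obtain ⟨z⟩ : Nonempty (PrimeSpectrum (Γ(X, β ⁻¹ᵁ U) ⧸ I)) := inferInstance
    haveI := z.isPrime
    have huniq : ∀ P : Ideal (Γ(X, β ⁻¹ᵁ U) ⧸ I), P.IsPrime → P = z.asIdeal := fun P hP =>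
      congrArg PrimeSpectrum.asIdeal (ι.isClosedEmbedding.injective
        (hβinj ((hιx ⟨P, hP⟩).trans (hιx z).symm)))
    refine stepDual_of_isPushout _ hsimple z.asIdeal huniq (fun r => ?_) ι (a := Nice.a hY ≫ e.hom) (b := Nice.b hY ≫ e.hom)
      ((Nice.isPushout hY).of_iso (Iso.refl _) (Iso.refl _) (Iso.refl _) e (by simp) (by simp [ξ, ξ0]) (by simp) (by simp))
    obtain ⟨c, rfl⟩ := Ideal.Quotient.mk_surjective r
    obtain ⟨a', s', hs', hz'⟩ := SeminormResLib.RF_app β hβres U hU (PrimeSpectrum.comap π.hom z) c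
    let ka : D.toSubring ⧸ I.comap D.toSubring.subtype := Ideal.Quotient.mk _ (θ a')
    let ks : D.toSubring ⧸ I.comap D.toSubring.subtype := Ideal.Quotient.mk _ (θ s')
    have hks : ξ0 ks ∉ z.asIdeal := hs'
    have hks0 : ks ≠ 0 := fun h0 => hks (by rw [h0, map_zero]; exact z.asIdeal.zero_mem)
    refine ⟨ks⁻¹ * ka, ?_⟩
    have hz2 : ξ0 ks * π c - ξ0 ka ∈ z.asIdeal := by
      have := hz'
      simp only [PrimeSpectrum.comap_asIdeal, Ideal.mem_comap, map_sub, map_mul] at this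
      exact this
    show π c - ξ0 (ks⁻¹ * ka) ∈ z.asIdeal
    have h1 : ξ0 ks⁻¹ * ξ0 ks = 1 := by rw [← map_mul, inv_mul_cancel₀ hks0, map_one]
    rw [show π c - ξ0 (ks⁻¹ * ka) = ξ0 ks⁻¹ * (ξ0 ks * π c - ξ0 ka) by
      rw [map_mul]; linear_combination -(π c) * h1]
    exact z.asIdeal.mul_mem_left _ hz2
  let U2 : Bool → X'.Opens := fun b => cond b U ⟨{x}ᶜ, hx.isOpen_compl⟩
  refine IsZariskiLocalAtTarget.of_iSup_eq_top (P := @IsAffineHom) U2 (top_le_iff.1 fun w _ =>
    TopologicalSpace.Opens.mem_iSup.2 ?_) fun b => ?_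
  · by_cases hw : w = x
    · exact ⟨true, hw ▸ hxU⟩
    · exact ⟨false, hw⟩
  · cases b
    · haveI := hiso (U2 false) fun h => h rfl
      have h1 : IsAffineHom (β ∣_ U2 false) := IsZariskiLocalAtTarget.restrict (P := @IsAffineHom) ‹_› _
      rw [← haq, morphismRestrict_comp] at h1
      exact (MorphismProperty.cancel_left_of_respectsIso @IsAffineHom (Nice.a hY ∣_ (q ⁻¹ᵁ U2 false)) _).1 h1
    · haveI : IsAffine (U : Scheme) := hU
      haveI : IsAffine ((q ⁻¹ᵁ U : (Nice.P ι ξ).Opens) : Scheme) := hrange ▸ isAffineOpen_opensRange p0.ι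
      show IsAffineHom (q ∣_ U)
      infer_instance

/-- composite of pinchings -/
def HasChain (St : ∀ ⦃A B : Scheme.{u}⦄, (A ⟶ B) → Prop) {X X' : Scheme.{u}} (β : X ⟶ X') : Prop :=
  ∃ (n : ℕ) (F : ComposableArrows Scheme.{u} n) (e : F.left ≅ X) (e' : F.right ≅ X'),
      e.inv ≫ F.hom ≫ e'.hom = β ∧
      ∀ i : Fin n, St (F.map (homOfLE (Fin.castSucc_lt_succ (i := i)).le))

theorem hasChain_of_isIso (St : ∀ ⦃A B : Scheme.{u}⦄, (A ⟶ B) → Prop) {X X' : Scheme.{u}} (β : X ⟶ X') [IsIso β] :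
    HasChain St β :=
  ⟨0, ComposableArrows.mk₀ X', (asIso β).symm, Iso.refl _, by
    show β ≫ 𝟙 X' ≫ 𝟙 X' = β
    simp, fun i => i.elim0⟩

theorem hasChain_comp {St : ∀ ⦃A B : Scheme.{u}⦄, (A ⟶ B) → Prop} {X Z X' : Scheme.{u}} {a : X ⟶ Z} {q : Z ⟶ X'}
    (ha : ∀ (B : Scheme.{u}) (e : Z ≅ B), St (a ≫ e.hom)) (hq : HasChain St q) : HasChain St (a ≫ q) := by
  obtain ⟨n, F, e, e', hF, hs⟩ := hq
  refine ⟨n + 1, F.precomp (a ≫ e.inv), Iso.refl _, e', ?_, fun i => ?_⟩
  · have hh : (F.precomp (a ≫ e.inv)).hom = (a ≫ e.inv) ≫ F.hom := by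
      cases n
      · show a ≫ e.inv = (a ≫ e.inv) ≫ F.map (homOfLE _)
        exact ((congrArg (fun g => (a ≫ e.inv) ≫ g) (F.map_id _)).trans (Category.comp_id _)).symm
      · rfl
    rw [hh, ← hF]
    show 𝟙 X ≫ ((a ≫ e.inv) ≫ F.hom) ≫ e'.hom = _
    simp
  · cases i using Fin.cases with
    | zero => exact ha _ e.symm
    | succ i => exact hs i

theorem main {X' : Scheme.{u}} (St : ∀ ⦃A B : Scheme.{u}⦄, (A ⟶ B) → Prop)
    (Inv : ∀ ⦃X : Scheme.{u}⦄, (X ⟶ X') → Prop)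
    (hstepInv : ∀ ⦃X P : Scheme.{u}⦄ (a : X ⟶ P) (q : P ⟶ X'), Surjective a → Inv (a ≫ q) → Inv q)
    (hSt : ∀ ⦃X P : Scheme.{u}⦄ (a : X ⟶ P) (q : P ⟶ X'), Inv (a ≫ q) →
      (∀ (B : Scheme.{u}) (e : P ≅ B), Step (a ≫ e.hom)) →
      (Function.Injective (a ≫ q) → HTop.ResidueFieldsIso (a ≫ q) → ∀ (B : Scheme.{u}) (e : P ≅ B), StepDual (a ≫ e.hom)) →
      ∀ (B : Scheme.{u}) (e : P ≅ B), St (a ≫ e.hom))
    (S : Finset X') (U : X' → X'.Opens) (W : X'.Opens)
    (hW : ∀ w, w ∈ W ↔ w ∉ S) (hclosed : ∀ x ∈ S, IsClosed ({x} : Set X'))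
    (hUa : ∀ x ∈ S, IsAffineOpen (U x)) (hUx : ∀ x ∈ S, x ∈ U x)
    (hUS : ∀ x ∈ S, ∀ y ∈ S, y ∈ U x → y = x) :
    ∀ (N : ℕ) {X : Scheme.{u}} (β : X ⟶ X') [IsAffineHom β], IsIso (β ∣_ W) → Inv β →
      (∀ x ∈ S, Function.Injective (β.app (U x)) ∧ len (β.app (U x)) ≠ ⊤) →
      (∑ x ∈ S, (len (β.app (U x))).toNat) = N → HasChain St β := by
  intro N
  induction N using Nat.strong_induction_on with
  | _ N ih =>
    intro X β _ hW' hInv hS hN
    by_cases hall : ∀ x ∈ S, Function.Surjective (β.app (U x))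
    · let V : Option S → X'.Opens := fun o => o.elim W fun x => U x.1
      haveI : IsIso β := by
        refine IsZariskiLocalAtTarget.of_iSup_eq_top (P := MorphismProperty.isomorphisms Scheme.{u}) V
          (top_le_iff.1 fun w _ => TopologicalSpace.Opens.mem_iSup.2 ?_) fun o => ?_
        · by_cases hw : w ∈ S
          · exact ⟨some ⟨w, hw⟩, hUx w hw⟩
          · exact ⟨none, (hW w).2 hw⟩
        · cases o with
          | none => exact hW'
          | some x => exact isIso_restrict_of_bijective β (hUa _ x.2) ⟨(hS _ x.2).1, hall _ x.2⟩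
      exact hasChain_of_isIso St β
    push Not at hall
    obtain ⟨x, hx, hns⟩ := hall
    obtain ⟨P, a, q, rfl, hstep, ⟨hasurj, hdual⟩, haff, hinja, hnsa, hiso⟩ := exists_pinch β x (hclosed x hx) (U x) (hUa x hx)
      (hUx x hx) (hS x hx).1 (hS x hx).2 hns fun g hg => by
        have hle : X'.basicOpen g ≤ W := fun w hw => (hW w).2 fun hwS =>
          hg (hUS x hx w hwS (X'.basicOpen_le g hw) ▸ hw)
        haveI := hW'
        haveI := isIso_restrict_of_le β hle
        exact bijective_app_of_isIso_restrict β _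
    haveI := haff
    have hinjy : ∀ y ∈ S, Function.Injective (a.app (q ⁻¹ᵁ U y)) := fun y hy => by
      rcases eq_or_ne y x with rfl | hne
      · exact hinja
      haveI := hiso (U y) fun h => hne (hUS y hy x hx h).symm
      exact (bijective_app_of_isIso_restrict a _).1
    have happ : ∀ y, (a ≫ q).app (U y) = q.app (U y) ≫ a.app (q ⁻¹ᵁ U y) := fun y => Scheme.Hom.comp_app a q (U y)
    have hle : ∀ y ∈ S, len (q.app (U y)) ≤ len ((a ≫ q).app (U y)) := fun y hy => by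
      rw [happ]; exact len_le _ _ (hinjy y hy)
    have hS' : ∀ y ∈ S, Function.Injective (q.app (U y)) ∧ len (q.app (U y)) ≠ ⊤ := fun y hy => by
      refine ⟨?_, ne_top_of_le_ne_top (hS y hy).2 (hle y hy)⟩
      have := (hS y hy).1
      rw [happ] at this
      exact Function.Injective.of_comp (f := a.app (q ⁻¹ᵁ U y)) this
    have hlt : len (q.app (U x)) < len ((a ≫ q).app (U x)) := by
      rw [happ]
      exact len_lt _ _ hinja hnsa (happ x ▸ (hS x hx).2)
    have hWq : IsIso (q ∣_ W) := by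
      haveI := hiso W fun h => (hW x).1 h hx
      have h1 := hW'
      rw [morphismRestrict_comp] at h1
      haveI := h1
      exact @IsIso.of_isIso_comp_left _ _ _ _ _ (a ∣_ (q ⁻¹ᵁ W)) (q ∣_ W) _ h1
    refine hasChain_comp (hSt a q hInv hstep hdual) (ih _ ?_ q hWq (hstepInv a q hasurj hInv) hS' rfl)
    rw [← hN]
    refine Finset.sum_lt_sum (fun y hy => ENat.toNat_le_toNat (hle y hy) (hS y hy).2) ⟨x, hx, ?_⟩
    rw [← ENat.coe_lt_coe, ENat.coe_toNat (hS' x hx).2, ENat.coe_toNat (hS x hx).2]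
    exact hlt

end Groth.Agent.PinchChainLib

namespace Groth.Agent.PinchChainLib

/-- a finite birational morphism of schemes is a composite of pinchings -/
theorem hasChain_of_finite' {X X' : Scheme.{u}} (St : ∀ ⦃A B : Scheme.{u}⦄, (A ⟶ B) → Prop)
    (Inv : ∀ ⦃X : Scheme.{u}⦄, (X ⟶ X') → Prop)
    (hstepInv : ∀ ⦃X P : Scheme.{u}⦄ (a : X ⟶ P) (q : P ⟶ X'), Surjective a → Inv (a ≫ q) → Inv q)
    (hSt : ∀ ⦃X P : Scheme.{u}⦄ (a : X ⟶ P) (q : P ⟶ X'), Inv (a ≫ q) →
      (∀ (B : Scheme.{u}) (e : P ≅ B), Step (a ≫ e.hom)) →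
      (Function.Injective (a ≫ q) → HTop.ResidueFieldsIso (a ≫ q) → ∀ (B : Scheme.{u}) (e : P ≅ B), StepDual (a ≫ e.hom)) →
      ∀ (B : Scheme.{u}) (e : P ≅ B), St (a ≫ e.hom))
    (β : X ⟶ X') (hInv : Inv β) [IsFinite β] [IsSchemeTheoreticallyDominant β]
    [IsLocallyNoetherian X'] [JacobsonSpace X'] (V : X'.Opens) (hV : ((V : Set X')ᶜ).Finite) [IsIso (β ∣_ V)] :
    HasChain St β := by
  classical
  set S := hV.toFinset with hSdef
  have hmem : ∀ w, w ∈ S ↔ w ∉ V := fun w => by simp [hSdef]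
  have hclosed : ∀ x ∈ S, IsClosed ({x} : Set X') := by
    intro x hx
    have hZ : IsClosed ((V : Set X')ᶜ) := V.isOpen.isClosed_compl
    have hA : IsClosed ((V : Set X')ᶜ ∩ closedPoints X') := by
      rw [← Set.biUnion_of_singleton ((V : Set X')ᶜ ∩ closedPoints X')]
      exact (hV.subset Set.inter_subset_left).isClosed_biUnion fun y hy => hy.2
    have hxA : x ∈ (V : Set X')ᶜ ∩ closedPoints X' := by
      rw [← hA.closure_eq, closure_inter_closedPoints hZ]
      exact (hmem x).1 hx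
    exact hxA.2
  have hU : ∀ x ∈ S, ∃ U : X'.Opens, IsAffineOpen U ∧ x ∈ U ∧ ∀ y ∈ S, y ∈ U → y = x := by
    intro x hx
    have hc : IsClosed ((S.erase x : Finset X') : Set X') := by
      rw [← Set.biUnion_of_singleton ((S.erase x : Finset X') : Set X')]
      exact (S.erase x).finite_toSet.isClosed_biUnion fun y hy => hclosed y (Finset.mem_of_mem_erase (Finset.mem_coe.1 hy))
    obtain ⟨U, hU, hxU, hUc⟩ := exists_isAffineOpen_mem_and_subset (X := X') (x := x)
      (U := ⟨((S.erase x : Finset X') : Set X')ᶜ, hc.isOpen_compl⟩) (fun h => by simpa using h)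
    refine ⟨U, hU, hxU, fun y hy hyU => ?_⟩
    by_contra hne
    exact hUc hyU (Finset.mem_coe.2 (Finset.mem_erase.2 ⟨hne, hy⟩))
  choose! U hUa hUx hUS using hU
  refine main St Inv hstepInv hSt S U V (fun w => by rw [hmem, not_not]) hclosed hUa hUx hUS _ β ‹_› hInv (fun x hx => ⟨β.app_injective _, ?_⟩) rfl
  haveI := IsLocallyNoetherian.component_noetherian (X := X') ⟨U x, hUa x hx⟩
  haveI := (hUa x hx).primeIdealOf_isMaximal_of_isClosed ⟨x, hUx x hx⟩ (hclosed x hx)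
  refine len_ne_top_of_killed (β.app (U x)) (β.finite_app (U x) (hUa x hx))
    ((hUa x hx).primeIdealOf ⟨x, hUx x hx⟩).asIdeal fun g hg => ?_
  refine killed_of_bijective β (hUa x hx) g ?_
  have hle : X'.basicOpen g ≤ V := fun w hw => by
    by_contra hwV
    have hwx : w = x := hUS x hx w ((hmem w).2 hwV) (X'.basicOpen_le g hw)
    subst hwx
    have h1 : (hUa w hx).primeIdealOf ⟨w, hUx w hx⟩ ∈ PrimeSpectrum.basicOpen g := by
      rw [← (hUa w hx).fromSpec_preimage_basicOpen g]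
      show (hUa w hx).fromSpec ((hUa w hx).primeIdealOf ⟨w, hUx w hx⟩) ∈ X'.basicOpen g
      rw [IsAffineOpen.fromSpec_primeIdealOf]
      exact hw
    exact h1 hg
  haveI := isIso_restrict_of_le β hle
  exact bijective_app_of_isIso_restrict β _

theorem hasChain_of_finite {X X' : Scheme.{u}} (β : X ⟶ X') [IsFinite β] [IsSchemeTheoreticallyDominant β]
    [IsLocallyNoetherian X'] [JacobsonSpace X'] (V : X'.Opens) (hV : ((V : Set X')ᶜ).Finite) [IsIso (β ∣_ V)] :
    HasChain (fun _ _ f => Step f) β :=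
  hasChain_of_finite' (fun _ _ f => Step f) (fun _ _ => True) (fun _ _ _ _ _ _ => trivial)
    (fun _ _ _ _ _ h _ => h) β trivial V hV

theorem hasChainDual_of_finite {X X' : Scheme.{u}} (β : X ⟶ X') [IsFinite β] [IsSchemeTheoreticallyDominant β]
    [IsLocallyNoetherian X'] [JacobsonSpace X'] (V : X'.Opens) (hV : ((V : Set X')ᶜ).Finite) [IsIso (β ∣_ V)]
    (hinj : Function.Injective β) (hres : HTop.ResidueFieldsIso β) : HasChain (fun _ _ f => StepDual f) β :=
  hasChain_of_finite' (fun _ _ f => StepDual f) (fun _ f => Function.Injective f ∧ HTop.ResidueFieldsIso f)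
    (fun X P a q ha h => by
      refine ⟨fun p p' hpp => ?_, fun p => ?_⟩
      · obtain ⟨y, rfl⟩ := ha.surj p
        obtain ⟨y', rfl⟩ := ha.surj p'
        exact congrArg (fun z => a z) (h.1 hpp)
      · obtain ⟨y, rfl⟩ := ha.surj p
        have h1 := h.2 y
        rw [Scheme.residueFieldMap_comp] at h1
        have h2 := (ConcreteCategory.bijective_of_isIso (q.residueFieldMap (a y) ≫ a.residueFieldMap y)).2
        refine (ConcreteCategory.isIso_iff_bijective _).2 ⟨(q.residueFieldMap (a y)).hom.injective, fun z => ?_⟩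
        obtain ⟨w, hw⟩ := h2 (a.residueFieldMap y z)
        exact ⟨w, (a.residueFieldMap y).hom.injective hw⟩)
    (fun _ _ _ _ h _ hd => hd h.1 h.2) β ⟨hinj, hres⟩ V hV

end Groth.Agent.PinchChainLib
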