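import Groth.Agent.PinchChainLib.Geom
import Groth.Agent.S0415

/-!
# The seminormalization of a reduced curve
-/

set_option autoImplicit false
set_option backward.isDefEq.respectTransparency false
set_option backward.isDefEq.respectTransparency.types false
universe u

open CategoryTheory AlgebraicGeometry Limits TopologicalSpace

namespace Groth.Agent.PinchChainLib

/-- in a space of dimension one irreducible closed sets avoiding the generic points are points -/
theorem finite_of_avoid_generic {X : Type u} [TopologicalSpace X] [NoetherianSpace X] [QuasiSober X] [T0Space X]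
    (hdim : ∀ W ∈ irreducibleComponents X, topologicalKrullDim W = 1) {Z : Set X} (hZ : IsClosed Z)
    (hgen : ∀ η ∈ Z, closure {η} ∈ irreducibleComponents X → False) : Z.Finite := by
  obtain ⟨S, hSfin, hSc, hSi, hSeq⟩ := NoetherianSpace.exists_finite_set_isClosed_irreducible (s := Z) hZ
  rw [hSeq]
  refine hSfin.sUnion fun Z' hZ' => ?_
  have hsub : Z' ⊆ Z := hSeq ▸ Set.subset_sUnion_of_mem hZ'
  obtain ⟨z, hz⟩ := QuasiSober.sober (hSi Z' hZ') (hSc Z' hZ')
  obtain ⟨W, hW, hWsub⟩ := exists_mem_irreducibleComponents_subset_of_isIrreducible Z' (hSi Z' hZ')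
  obtain ⟨w, hw⟩ := QuasiSober.sober hW.1 (isClosed_of_mem_irreducibleComponents W hW)
  have hzZ' : z ∈ Z' := hz.mem
  have hzw : z ≠ w := fun h => hgen z (hsub hzZ') (by rw [h, hw.def]; exact hW)
  refine Set.Finite.subset (Set.finite_singleton z) fun y hy => ?_
  by_contra hne
  have hne' : y ≠ z := fun h => hne h
  have hzy : z ⤳ y := hz.specializes hy
  have hwz : w ⤳ z := hw.specializes (hWsub hzZ')
  let cl : W → IrreducibleCloseds W := fun v => ⟨closure {v}, isIrreducible_singleton.closure, isClosed_closure⟩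
  have hlt : ∀ v v' : W, (v' : X) ⤳ v → v ≠ v' → cl v < cl v' := by
    intro v v' hs hne
    have hs' : v' ⤳ v := (subtype_specializes_iff v' v).2 hs
    refine lt_of_le_of_ne (specializes_iff_closure_subset.1 hs') fun h => hne ?_
    exact (inseparable_iff_closure_eq.2 (congrArg (fun c : IrreducibleCloseds W => (c : Set W)) h)).eq
  have h1 := hlt ⟨y, hWsub hy⟩ ⟨z, hWsub hzZ'⟩ hzy (fun h => hne' (congrArg Subtype.val h))
  have h2 := hlt ⟨z, hWsub hzZ'⟩ ⟨w, hw.mem⟩ hwz (fun h => hzw (congrArg Subtype.val h))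
  have hlen : ((2 : ℕ) : WithBot ℕ∞) ≤ topologicalKrullDim W :=
    Order.LTSeries.length_le_krullDim (((RelSeries.singleton _ (cl ⟨y, hWsub hy⟩)).snoc _ h1).snoc
      (cl ⟨w, hw.mem⟩) (by rw [RelSeries.last_snoc]; exact h2))
  rw [hdim W hW] at hlen
  have h3 : (2 : ℕ) ≤ 1 := by exact_mod_cast hlen
  omega

theorem key_birational {κ : Type u} [Field κ] {C C' : Scheme.{u}} (g : C ⟶ Spec (CommRingCat.of κ))
    [LocallyOfFiniteType g] [AlgebraicGeometry.IsNoetherian C] [JacobsonSpace C]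
    [AlgebraicGeometry.IsReduced C'] (hdim : ∀ W ∈ irreducibleComponents (C : Type u), topologicalKrullDim W = 1)
    (ς : C' ⟶ C) [IsIntegralHom ς] [IsSchemeTheoreticallyDominant ς] (hres : HTop.ResidueFieldsIso ς)
    (hinj : Function.Injective ς)
    (hbij : ∀ (U : C.Opens), IsAffineOpen U → Function.Bijective (PrimeSpectrum.comap (ς.app U).hom))
    (hfin : ∀ (U : C.Opens), IsAffineOpen U → (ς.app U).hom.Finite) : HasChain (fun _ _ f => StepDual f) ς := by
  haveI : IsAffineHom ς := inferInstance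
  haveI : IsFinite ς := IsFinite.mk hfin
  let Vs : {O : C.Opens // IsIso (ς ∣_ O)} → C.Opens := fun O => O.1
  let V : C.Opens := ⨆ O, Vs O
  haveI : IsIso (ς ∣_ V) := by
    refine IsZariskiLocalAtTarget.of_iSup_eq_top (P := MorphismProperty.isomorphisms Scheme.{u})
      (fun O => V.ι ⁻¹ᵁ Vs O) (top_le_iff.1 fun w _ => ?_) fun O => ?_
    · obtain ⟨O, hO⟩ := TopologicalSpace.Opens.mem_iSup.1 w.2
      exact TopologicalSpace.Opens.mem_iSup.2 ⟨O, hO⟩
    · rw [(MorphismProperty.isomorphisms Scheme.{u}).arrow_mk_iso_iff (morphismRestrictRestrict _ V _)]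
      have e : V.ι ''ᵁ (V.ι ⁻¹ᵁ Vs O) = Vs O := by
        rw [Scheme.Hom.image_preimage_eq_opensRange_inf, Scheme.Opens.opensRange_ι, inf_eq_right.2 (le_iSup Vs O)]
      rw [e]
      exact O.2
  refine hasChainDual_of_finite ς V ?_ hinj hres
  refine finite_of_avoid_generic hdim V.isOpen.isClosed_compl fun η hη hgen => hη ?_
  obtain ⟨U, hU, hηU, -⟩ := exists_isAffineOpen_mem_and_subset (X := C) (x := η) (U := ⊤) trivial
  letI := (g.appLE ⊤ U le_top).hom.toAlgebra
  letI := (ς.app U).hom.toAlgebra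
  haveI : Algebra.IsIntegral Γ(C, U) Γ(C', ς ⁻¹ᵁ U) := ⟨IsIntegralHom.isIntegral_app ς U hU⟩
  haveI : Module.Finite Γ(C, U) Γ(C', ς ⁻¹ᵁ U) := ς.finite_app U hU
  set p := hU.primeIdealOf ⟨η, hηU⟩ with hp
  have hmin : p.asIdeal ∈ minimalPrimes Γ(C, U) := by
    refine ⟨⟨p.isPrime, bot_le⟩, fun P hP hPp => ?_⟩
    let P' : PrimeSpectrum Γ(C, U) := ⟨P, hP.1⟩
    have h1 : (P' : Spec Γ(C, U)) ⤳ p := (PrimeSpectrum.le_iff_specializes P' p).1 hPp
    have h2 := h1.map hU.fromSpec.continuous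
    rw [hp, IsAffineOpen.fromSpec_primeIdealOf] at h2
    have h3 : closure {η} ⊆ closure {hU.fromSpec P'} := specializes_iff_closure_subset.1 h2
    have h4 : closure {hU.fromSpec P'} = closure {η} :=
      le_antisymm (hgen.2 isIrreducible_singleton.closure h3) h3
    have h5 : hU.fromSpec P' = hU.fromSpec p := by
      rw [hp, IsAffineOpen.fromSpec_primeIdealOf]
      exact (inseparable_iff_closure_eq.2 h4).eq
    exact (congrArg PrimeSpectrum.asIdeal (hU.fromSpec.isOpenEmbedding.injective h5)).ge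
  have hk : ∀ c : Γ(C', ς ⁻¹ᵁ U), ∃ f : Γ(C, U), f ∉ p.asIdeal ∧ ς.app U f * c ∈ Set.range (ς.app U) := fun c =>
    generic_killed (B := Γ(C, U)) (hbij U hU) (fun Q c => SeminormResLib.RF_app ς hres U hU Q c) p.asIdeal hmin c
  obtain ⟨s, hs⟩ := Module.Finite.fg_top (R := Γ(C, U)) (M := Γ(C', ς ⁻¹ᵁ U))
  choose f hf hfr using hk
  let F := ∏ c ∈ s, f c
  have hF : F ∉ p.asIdeal := fun h => by
    obtain ⟨c, -, hc⟩ := (p.isPrime.prod_mem_iff).1 h
    exact hf c hc
  have hkill : ∀ c, ς.app U F * c ∈ Set.range (ς.app U) := fun c => by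
    have hc : c ∈ Submodule.span Γ(C, U) (s : Set Γ(C', ς ⁻¹ᵁ U)) := by rw [hs]; trivial
    induction hc using Submodule.span_induction with
    | mem x hx =>
      obtain ⟨t, ht⟩ := Finset.dvd_prod_of_mem f (Finset.mem_coe.1 hx)
      obtain ⟨r, hr⟩ := hfr x
      exact ⟨t * r, by rw [map_mul, hr, show F = f x * t from ht, map_mul]; ring⟩
    | zero => exact ⟨0, by rw [map_zero, mul_zero]⟩
    | add x y _ _ hx hy =>
      obtain ⟨a, ha⟩ := hx; obtain ⟨b, hb⟩ := hy
      exact ⟨a + b, by rw [map_add, ha, hb, mul_add]⟩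
    | smul r x _ hx =>
      obtain ⟨a, ha⟩ := hx
      exact ⟨r * a, by rw [map_mul, ha]; show _ = ς.app U F * (ς.app U r * x); ring⟩
  have hbijF : Function.Bijective (ς.app (C.basicOpen F)) := by
    refine ⟨ς.app_injective _, fun z => ?_⟩
    have hle : C.basicOpen F ≤ U := C.basicOpen_le F
    haveI := hU.isLocalization_basicOpen F
    have key : ∀ (W : C'.Opens) (hW : W ≤ ς ⁻¹ᵁ U) (_ : W = C'.basicOpen (ς.app U F)) (z : Γ(C', W)),
        ∃ (n : ℕ) (c : Γ(C', ς ⁻¹ᵁ U)),
          z * C'.presheaf.map (homOfLE hW).op (ς.app U F) ^ n = C'.presheaf.map (homOfLE hW).op c := by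
      rintro W hW rfl z
      haveI := (hU.preimage ς).isLocalization_basicOpen (ς.app U F)
      obtain ⟨n, c, hc⟩ := IsLocalization.Away.surj (S := Γ(C', C'.basicOpen (ς.app U F))) (ς.app U F) z
      exact ⟨n, c, hc⟩
    obtain ⟨n, c, hc⟩ := key _ (ς.preimage_mono hle) (Scheme.preimage_basicOpen ς F) z
    obtain ⟨r, hr⟩ := hkill c
    have hnat : ∀ t, C'.presheaf.map (homOfLE (ς.preimage_mono hle)).op (ς.app U t) =
        ς.app (C.basicOpen F) (C.presheaf.map (homOfLE hle).op t) := fun t =>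
      (ConcreteCategory.congr_hom (ς.naturality (homOfLE hle).op) t).symm
    have hu : IsUnit (C.presheaf.map (homOfLE hle).op F) :=
      IsLocalization.Away.algebraMap_isUnit (S := Γ(C, C.basicOpen F)) F
    obtain ⟨v, hv⟩ := hu.pow (n + 1)
    refine ⟨C.presheaf.map (homOfLE hle).op r * ↑v⁻¹, ?_⟩
    rw [map_mul, ← hnat, hr, map_mul, ← hc, hnat]
    have h2 : ς.app (C.basicOpen F) (C.presheaf.map (homOfLE hle).op F) ^ (n + 1) *
        ς.app (C.basicOpen F) (↑v⁻¹ : Γ(C, C.basicOpen F)) = 1 := by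
      rw [← map_pow, ← map_mul, ← hv, Units.mul_inv, map_one]
    linear_combination z * h2
  haveI := isIso_restrict_of_bijective ς (hU.basicOpen F) hbijF
  refine TopologicalSpace.Opens.mem_iSup.2 ⟨⟨C.basicOpen F, inferInstance⟩, ?_⟩
  show η ∈ C.basicOpen F
  have : p ∈ hU.fromSpec ⁻¹ᵁ C.basicOpen F := by rw [hU.fromSpec_preimage_basicOpen F]; exact hF
  have h6 : hU.fromSpec p ∈ C.basicOpen F := this
  rwa [hp, IsAffineOpen.fromSpec_primeIdealOf] at h6


/-- the seminormalization of a reduced curve is finite and birational, so it is a composite of dual number pinchings -/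
theorem hasChainDual_of_univHomeo {κ : Type u} [Field κ] {C C' : Scheme.{u}} (g : C ⟶ Spec (CommRingCat.of κ))
    [LocallyOfFiniteType g] [QuasiCompact g] [AlgebraicGeometry.IsReduced C] [AlgebraicGeometry.IsReduced C']
    (hdim : ∀ W ∈ irreducibleComponents (C : Type u), topologicalKrullDim W = 1)
    (ς : C' ⟶ C) (hς : FlatMor.IsUnivHomeo ς) (hres : HTop.ResidueFieldsIso ς) :
    HasChain (fun _ _ f => StepDual f) ς := by
  haveI : IsIntegralHom ς := ((Groth.Agent.S0415.result ς).1 hς).1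
  haveI : Surjective ς := ((Groth.Agent.S0415.result ς).1 hς).2.2
  haveI : IsDominant ς := ⟨ς.surjective.denseRange⟩
  haveI : IsSchemeTheoreticallyDominant ς := .of_isDominant ς
  haveI : IsLocallyNoetherian C := LocallyOfFiniteType.isLocallyNoetherian g
  haveI : JacobsonSpace C := LocallyOfFiniteType.jacobsonSpace g
  haveI : CompactSpace C := QuasiCompact.compactSpace_of_compactSpace g
  haveI : IsNoetherian C := ⟨⟩
  have hinj : Function.Injective ς := by
    haveI := ((Groth.Agent.S0415.result ς).1 hς).2.1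
    exact ς.injective
  have hbij : ∀ (U : C.Opens) (hU : IsAffineOpen U),
      Function.Bijective (PrimeSpectrum.comap (ς.app U).hom) := fun U hU => by
    have h1 := AWNLib.univHomeo_app ς hς U hU
    have h2 : IsHomeomorph (Spec.map (ς.app U)).base := MorphismProperty.universally_le _ _ h1
    exact h2.bijective
  have hft : ∀ (U : C.Opens) (hU : IsAffineOpen U),
      letI := (g.appLE ⊤ U le_top).hom.toAlgebra
      Algebra.FiniteType Γ(Spec (CommRingCat.of κ), ⊤) Γ(C, U) := fun U hU =>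
    HasRingHomProperty.appLE (P := @LocallyOfFiniteType) g inferInstance ⟨⊤, isAffineOpen_top _⟩ ⟨U, hU⟩ le_top
  letI hfield : Field Γ(Spec (CommRingCat.of κ), ⊤) :=
    ((Scheme.ΓSpecIso (CommRingCat.of κ)).commRingCatIsoToRingEquiv.toMulEquiv.isField (Field.toIsField κ)).toField
  haveI : IsAffineHom ς := inferInstance
  suffices hfin : ∀ (U : C.Opens), IsAffineOpen U → (ς.app U).hom.Finite by
    exact key_birational g hdim ς hres hinj hbij hfin
  intro U hU
  letI := (g.appLE ⊤ U le_top).hom.toAlgebra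
  letI := (ς.app U).hom.toAlgebra
  haveI : Algebra.IsIntegral Γ(C, U) Γ(C', ς ⁻¹ᵁ U) := ⟨IsIntegralHom.isIntegral_app ς U hU⟩
  haveI := hft U hU
  haveI := finite_of_subintegral (k := Γ(Spec (CommRingCat.of κ), ⊤)) (B := Γ(C, U)) (B' := Γ(C', ς ⁻¹ᵁ U)) (hbij U hU)
    (fun Q c => SeminormResLib.RF_app ς hres U hU Q c) (hft U hU)
  exact ‹Module.Finite Γ(C, U) Γ(C', ς ⁻¹ᵁ U)›

end Groth.Agent.PinchChainLib
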